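import Mathlib
import Cfsg.Prelude.Def_SolvableStructure

/-!
Groups of the same order type, Hall subgroups recognised by counting, and the tower of
normal Hall subgroups of a supersolvable group.
-/

set_option autoImplicit false

namespace CfsgLib.OrderCount

open Subgroup

/-- Groups of the same order type have an order-preserving bijection. -/
theorem exists_equiv_of_same_type {G H : Type*} [Group G] [Finite G] [Group H] [Finite H]
    (hT : ∀ m : ℕ, Nat.card {g : G // orderOf g = m} = Nat.card {h : H // orderOf h = m}) :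
    ∃ e : G ≃ H, ∀ g, orderOf (e g) = orderOf g := by
  classical
  have f : ∀ m, {g : G // orderOf g = m} ≃ {h : H // orderOf h = m} := fun m =>
    (Finite.equivFin _).trans ((finCongr (hT m)).trans (Finite.equivFin _).symm)
  exact ⟨Equiv.ofFiberEquiv f, fun g => Equiv.ofFiberEquiv_map f g⟩

theorem card_eq_of_orderOf_equiv {G H : Type*} [Group G] [Group H] (e : G ≃ H)
    (he : ∀ g, orderOf (e g) = orderOf g) (P : ℕ → Prop) :
    Nat.card {g : G // P (orderOf g)} = Nat.card {h : H // P (orderOf h)} :=
  Nat.card_congr (e.subtypeEquiv fun g => by rw [he])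

theorem card_pow_eq_one_of_orderOf_equiv {G H : Type*} [Group G] [Group H] (e : G ≃ H)
    (he : ∀ g, orderOf (e g) = orderOf g) (n : ℕ) :
    Nat.card {g : G // g ^ n = 1} = Nat.card {h : H // h ^ n = 1} :=
  Nat.card_congr (e.subtypeEquiv fun g => by
    rw [← orderOf_dvd_iff_pow_eq_one, ← orderOf_dvd_iff_pow_eq_one, he])

variable {G : Type*} [Group G] [Finite G]

/-- A normal subgroup with order prime to its index consists of the solutions of
`x ^ |K| = 1`. -/
theorem mem_iff_pow_card_eq_one (K : Subgroup G) [K.Normal]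
    (hK : (Nat.card K).Coprime K.index) (x : G) : x ∈ K ↔ x ^ Nat.card K = 1 := by
  constructor
  · intro hx
    exact congrArg Subtype.val (pow_card_eq_one' (x := (⟨x, hx⟩ : K)))
  · intro hx
    rw [← QuotientGroup.eq_one_iff, ← orderOf_eq_one_iff]
    refine Nat.eq_one_of_dvd_coprimes hK (orderOf_dvd_of_pow_eq_one ?_) ?_
    · rw [← QuotientGroup.mk_pow, hx]; rfl
    · rw [Subgroup.index_eq_card]; exact orderOf_dvd_natCard _

theorem card_pow_card_eq_one (K : Subgroup G) [K.Normal]
    (hK : (Nat.card K).Coprime K.index) : Nat.card {x : G // x ^ Nat.card K = 1} = Nat.card K :=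
  Nat.card_congr (Equiv.subtypeEquivRight fun x => (mem_iff_pow_card_eq_one K hK x).symm)

/-- A subgroup whose order is the number of solutions of `x ^ |J| = 1` is normal. -/
theorem normal_of_card_pow_card_eq_one (J : Subgroup G)
    (hJ : Nat.card {x : G // x ^ Nat.card J = 1} = Nat.card J) : J.Normal := by
  have hsub : (J : Set G) ⊆ {x : G | x ^ Nat.card J = 1} := fun x hx =>
    congrArg Subtype.val (pow_card_eq_one' (x := (⟨x, hx⟩ : J)))
  have heq : (J : Set G) = {x : G | x ^ Nat.card J = 1} :=
    Set.eq_of_subset_of_ncard_le hsub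
      (by rw [← Nat.card_coe_set_eq, ← Nat.card_coe_set_eq]; exact le_of_eq hJ) (Set.toFinite _)
  refine ⟨fun x hx g => ?_⟩
  have hx' : x ^ Nat.card J = 1 := hsub hx
  have : g * x * g⁻¹ ∈ {x : G | x ^ Nat.card J = 1} := by
    show (g * x * g⁻¹) ^ Nat.card J = 1
    rw [conj_pow, hx', mul_one, mul_inv_cancel]
  rwa [← heq] at this

theorem isSupersolvable_of_surjective {G H : Type*} [Group G] [Group H] (f : G →* H)
    (hf : Function.Surjective f) (hG : Cfsg.IsSupersolvable G) : Cfsg.IsSupersolvable H := by
  obtain ⟨n, C, h0, h1, hn, hstep⟩ := hG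
  refine ⟨n, fun i => (C i).map f, by simp [h0], ?_, fun i => (hn i).map f hf, fun i => ?_⟩
  · simp only [h1, ← MonoidHom.range_eq_map, MonoidHom.range_eq_top.2 hf]
  · obtain ⟨g, hg⟩ := hstep i
    exact ⟨f g, by simp only [hg, Subgroup.map_sup, MonoidHom.map_zpowers]⟩

/-- A nontrivial finite supersolvable group has a normal subgroup of prime order. -/
theorem exists_normal_prime_card [Nontrivial G] (hG : Cfsg.IsSupersolvable G) :
    ∃ N : Subgroup G, N.Normal ∧ (Nat.card N).Prime := by
  obtain ⟨n, C, h0, h1, hn, hstep⟩ := hG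
  obtain ⟨i, hi0, hi1⟩ : ∃ i : Fin n, C i.castSucc = ⊥ ∧ C i.succ ≠ ⊥ := by
    by_contra hne
    push Not at hne
    have : ∀ j, C j = ⊥ := fun j => Fin.induction h0 (fun i hi => hne i hi) j
    exact top_ne_bot (h1 ▸ this (Fin.last n))
  obtain ⟨g, hg⟩ := hstep i
  rw [hi0, bot_sup_eq] at hg
  have hg1 : orderOf g ≠ 1 := fun h => hi1 (by rw [hg, orderOf_eq_one_iff.1 h, zpowers_one_eq_bot])
  obtain ⟨r, hr, hrd⟩ := Nat.exists_prime_and_dvd hg1
  refine ⟨zpowers (g ^ (orderOf g / r)), ⟨fun x hx c => ?_⟩, ?_⟩
  · obtain ⟨j, rfl⟩ := mem_zpowers_iff.1 hx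
    have hN : (zpowers g).Normal := hg ▸ hn i.succ
    obtain ⟨k, hk⟩ := mem_zpowers_iff.1 (hN.conj_mem _
      (zpow_mem (pow_mem (mem_zpowers g) (orderOf g / r)) j) c)
    rw [← hk]
    have h1 : (g ^ k) ^ r = 1 := by
      rw [hk, conj_pow, ← zpow_natCast ((g ^ (orderOf g / r)) ^ j), ← zpow_mul, mul_comm, zpow_mul,
        zpow_natCast, ← pow_mul, Nat.div_mul_cancel hrd, pow_orderOf_eq_one, one_zpow, mul_one,
        mul_inv_cancel]
    rw [← zpow_natCast, ← zpow_mul, ← orderOf_dvd_iff_zpow_eq_one] at h1
    have h2 : ((orderOf g / r : ℕ) : ℤ) ∣ k := by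
      rw [← Nat.div_mul_cancel hrd] at h1
      push_cast at h1
      exact Int.dvd_of_mul_dvd_mul_right (by exact_mod_cast hr.ne_zero) h1
    obtain ⟨l, hl⟩ := h2
    rw [hl, zpow_mul, zpow_natCast]
    exact zpow_mem (mem_zpowers _) l
  · rw [Nat.card_zpowers, orderOf_pow_orderOf_div (orderOf_pos g).ne' hrd]
    exact hr

/-- In a finite supersolvable group the elements whose orders have only prime divisors at least
`t` form a normal Hall subgroup. -/
theorem supersolvable_hall (N : ℕ) : ∀ {G : Type*} [Group G] [Finite G], Nat.card G = N →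
    Cfsg.IsSupersolvable G → ∀ t : ℕ,
    ∃ K : Subgroup G, K.Normal ∧ (∀ q, q.Prime → q ∣ Nat.card K → t ≤ q) ∧
      (∀ q, q.Prime → q ∣ K.index → q < t) := by
  induction N using Nat.strong_induction_on with
  | _ N IH =>
    intro G _ _ hN hG t
    rcases subsingleton_or_nontrivial G with hs | hs
    · refine ⟨⊥, inferInstance, fun q hq hd => ?_, fun q hq hd => ?_⟩
      · rw [card_bot] at hd; exact absurd (Nat.dvd_one.1 hd) hq.ne_one
      · rw [index_bot, Nat.card_eq_one_iff_unique.2 ⟨hs, ⟨1⟩⟩] at hd
        exact absurd (Nat.dvd_one.1 hd) hq.ne_one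
    obtain ⟨R, hRn, hR⟩ := exists_normal_prime_card hG
    set r := Nat.card R with hr
    have hlt : Nat.card (G ⧸ R) < N := by
      rw [← hN, card_eq_card_quotient_mul_card_subgroup R]
      exact lt_mul_of_one_lt_right Nat.card_pos hR.one_lt
    obtain ⟨K', hK'n, hK'1, hK'2⟩ := IH _ hlt rfl
      (isSupersolvable_of_surjective _ (QuotientGroup.mk'_surjective R) hG) t
    set K := K'.comap (QuotientGroup.mk' R) with hK
    have hKn : K.Normal := hK'n.comap _
    have hidx : K.index = K'.index :=
      index_comap_of_surjective _ (QuotientGroup.mk'_surjective R)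
    have hRK : R ≤ K := fun x hx => by
      rw [hK, mem_comap, QuotientGroup.mk'_apply, (QuotientGroup.eq_one_iff x).2 hx]
      exact one_mem _
    have hcard : Nat.card K = Nat.card K' * r := by
      have h1 := index_mul_card K
      have h2 := index_mul_card K'
      rw [card_eq_card_quotient_mul_card_subgroup R, ← h2, ← hidx, mul_assoc] at h1
      exact Nat.eq_of_mul_eq_mul_left (Nat.pos_of_ne_zero index_ne_zero_of_finite) h1
    rcases le_or_gt t r with htr | htr
    · refine ⟨K, hKn, fun q hq hd => ?_, fun q hq hd => hK'2 q hq (hidx ▸ hd)⟩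
      rw [hcard] at hd
      rcases (Nat.Prime.dvd_mul hq).1 hd with h | h
      · exact hK'1 q hq h
      · rw [(Nat.prime_dvd_prime_iff_eq hq hR).1 h]; exact htr
    -- `R` is a small normal subgroup, hence central in `K`
    have hcop : r.Coprime (Nat.card K') := hR.coprime_iff_not_dvd.2 fun hd =>
      absurd (hK'1 r hR hd) (by omega)
    set R' : Subgroup K := R.subgroupOf K with hR'
    have hR'card : Nat.card R' = r := Nat.card_congr (subgroupOfEquivOfLe hRK).toEquiv
    have hR'idx : R'.index = Nat.card K' := by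
      have := index_mul_card R'
      rw [hR'card, hcard] at this
      exact Nat.eq_of_mul_eq_mul_right hR.pos this
    have hcentral : ∀ a : K, a ∈ R' → a ∈ center K := by
      intro a ha
      rcases eq_or_ne a 1 with rfl | ha1
      · exact one_mem _
      have hidx1 : (centralizer ({a} : Set K)).index = 1 := by
        by_contra hne
        obtain ⟨q, hq, hqd⟩ := Nat.exists_prime_and_dvd hne
        have h1 : (centralizer ({a} : Set K)).index ≤ r - 1 := by
          rw [show (centralizer ({a} : Set K)).index = (MulAction.stabilizer (ConjAct K) a).index by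
              rw [centralizer_eq_comap_stabilizer]
              exact index_comap_of_surjective _ ConjAct.toConjAct.surjective,
            MulAction.index_stabilizer]
          calc (MulAction.orbit (ConjAct K) a).ncard ≤ ((R' : Set K) \ {1}).ncard := by
                refine Set.ncard_le_ncard ?_
                rintro _ ⟨c, rfl⟩
                show c • a ∈ (R' : Set K) \ {1}
                rw [ConjAct.smul_def]
                refine ⟨(inferInstance : R'.Normal).conj_mem a ha _, fun h => ha1 ?_⟩
                rwa [Set.mem_singleton_iff, mul_inv_eq_one, mul_eq_left] at h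
            _ = r - 1 := by
                rw [Set.ncard_sdiff_singleton_of_mem (one_mem R'), ← Nat.card_coe_set_eq]
                exact congrArg (· - 1) hR'card
        have h2 : q ∣ Nat.card K := hqd.trans (index_dvd_card _)
        have h3 : q ≤ r - 1 := (Nat.le_of_dvd (Nat.pos_of_ne_zero index_ne_zero_of_finite) hqd).trans h1
        rw [hcard] at h2
        rcases (Nat.Prime.dvd_mul hq).1 h2 with h | h
        · have := hK'1 q hq h; omega
        · have := (Nat.prime_dvd_prime_iff_eq hq hR).1 h
          have := hR.pos; omega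
      rw [index_eq_one, eq_top_iff'] at hidx1
      exact mem_center_iff.2 fun b => mem_centralizer_singleton_iff.1 (hidx1 b)
    obtain ⟨C, hC⟩ := exists_right_complement'_of_coprime (N := R')
      (by rw [hR'card, hR'idx]; exact hcop)
    have hCcard : Nat.card C = Nat.card K' := by rw [← hC.symm.index_eq_card]; exact hR'idx
    have hCn : C.Normal := by
      refine ⟨fun c hc b => ?_⟩
      obtain ⟨⟨⟨a, ha⟩, ⟨d, hd⟩⟩, rfl⟩ := hC.2 b
      simp only [mul_inv_rev]
      have : a * d * c * (d⁻¹ * a⁻¹) = d * c * d⁻¹ := by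
        have h2 := mem_center_iff.1 (hcentral a ha) (d * c * d⁻¹)
        calc a * d * c * (d⁻¹ * a⁻¹) = a * (d * c * d⁻¹) * a⁻¹ := by group
          _ = d * c * d⁻¹ * a * a⁻¹ := by rw [h2]
          _ = _ := by group
      rw [this]
      exact mul_mem (mul_mem hd hc) (inv_mem hd)
    have hCidx : C.index = r := by
      have := index_mul_card C
      rw [hCcard, hcard, mul_comm (Nat.card K') r] at this
      exact Nat.eq_of_mul_eq_mul_right Nat.card_pos this
    have hCcop : (Nat.card C).Coprime C.index := by rw [hCcard, hCidx]; exact hcop.symm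
    refine ⟨C.map K.subtype, ⟨?_⟩, fun q hq hd => ?_, fun q hq hd => ?_⟩
    · rintro _ ⟨c, hc, rfl⟩ g
      have hg : g * (c : G) * g⁻¹ ∈ K := hKn.conj_mem _ c.2 g
      refine ⟨⟨_, hg⟩, (mem_iff_pow_card_eq_one C hCcop _).2 (Subtype.ext ?_), rfl⟩
      have h1 : (c : G) ^ Nat.card C = 1 := by
        rw [← SubmonoidClass.coe_pow, (mem_iff_pow_card_eq_one C hCcop c).1 hc]; rfl
      simp only [SubmonoidClass.coe_pow, coe_one]
      rw [conj_pow, h1, mul_one, mul_inv_cancel]
    · rw [card_map_of_injective K.subtype_injective, hCcard] at hd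
      exact hK'1 q hq hd
    · rw [index_map_subtype, hCidx] at hd
      rcases (Nat.Prime.dvd_mul hq).1 hd with h | h
      · rw [(Nat.prime_dvd_prime_iff_eq hq hR).1 h]; exact htr
      · exact hK'2 q hq (hidx ▸ h)

end CfsgLib.OrderCount
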