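import Mathlib

/-!
Counting elements by orders: Frobenius' theorem on the solutions of `x ^ n = 1`, its
consequence for the elements of order a multiple of `n`, and the splitting of an element
into commuting parts of coprime orders.
-/

set_option autoImplicit false

namespace CfsgLib.OrderCount

open Subgroup

universe u

variable {G : Type*} [Group G]

/-- A sum of a conjugation-invariant function over a conjugation-invariant set. -/
theorem dvd_sum_of_conj_invariant [Finite G] (s : Finset G) (f : G → ℕ) (d : ℕ)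
    (hs : ∀ g u, u ∈ s → g * u * g⁻¹ ∈ s) (hf : ∀ g u, u ∈ s → f (g * u * g⁻¹) = f u)
    (h : ∀ u ∈ s, d ∣ (centralizer ({u} : Set G)).index * f u) : d ∣ ∑ u ∈ s, f u := by
  classical
  rw [← Finset.sum_fiberwise_of_maps_to (t := s.image ConjClasses.mk) (g := ConjClasses.mk)
    (fun x hx => Finset.mem_image_of_mem _ hx)]
  refine Finset.dvd_sum fun c hc => ?_
  obtain ⟨u, hu, rfl⟩ := Finset.mem_image.mp hc
  have hconst : ∀ x ∈ s.filter (fun x => ConjClasses.mk x = ConjClasses.mk u), f x = f u := by
    intro x hx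
    obtain ⟨g, hg⟩ := isConj_iff.mp (ConjClasses.mk_eq_mk_iff_isConj.mp (Finset.mem_filter.mp hx).2).symm
    rw [← hg, hf g u hu]
  rw [Finset.sum_congr rfl hconst, Finset.sum_const, smul_eq_mul]
  have hcard : (s.filter (fun x => ConjClasses.mk x = ConjClasses.mk u)).card
      = (centralizer ({u} : Set G)).index := by
    have h1 : (s.filter (fun x => ConjClasses.mk x = ConjClasses.mk u) : Set G)
        = MulAction.orbit (ConjAct G) u := by
      ext x
      simp only [Finset.coe_filter, Set.mem_setOf_eq, MulAction.mem_orbit_iff,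
        ConjClasses.mk_eq_mk_iff_isConj]
      constructor
      · rintro ⟨-, hx⟩
        obtain ⟨g, hg⟩ := isConj_iff.mp hx.symm
        exact ⟨ConjAct.toConjAct g, by rw [ConjAct.smul_def]; simpa using hg⟩
      · rintro ⟨g, rfl⟩
        rw [ConjAct.smul_def]
        exact ⟨hs _ u hu, (isConj_iff.mpr ⟨_, rfl⟩).symm⟩
    have h2 : (centralizer ({u} : Set G)).index = (MulAction.stabilizer (ConjAct G) u).index := by
      rw [centralizer_eq_comap_stabilizer]
      exact index_comap_of_surjective _ ConjAct.toConjAct.surjective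
    rw [h2, MulAction.index_stabilizer, ← h1, Set.ncard_coe_finset]
  rw [hcard]
  exact h u hu

theorem orderOf_conj' (g u : G) : orderOf (g * u * g⁻¹) = orderOf u :=
  (orderOf_injective (MulAut.conj g).toMonoidHom (MulAut.conj g).injective u)

/-- The elements generating one cyclic subgroup. -/
theorem card_generators [Finite G] (u : G) :
    Nat.card {w : G // zpowers w = zpowers u} = (orderOf u).totient := by
  classical
  have : Fintype G := Fintype.ofFinite G
  have e : {w : G // zpowers w = zpowers u} ≃ {a : zpowers u // orderOf a = orderOf u} :=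
    { toFun := fun w => ⟨⟨w.1, (SetLike.ext_iff.1 w.2 w.1).1 (mem_zpowers w.1)⟩, by
        rw [Subgroup.orderOf_mk, ← Nat.card_zpowers, w.2, Nat.card_zpowers]⟩
      invFun := fun a => ⟨a.1.1, Subgroup.eq_of_le_of_card_ge (zpowers_le.mpr a.1.2)
        (le_of_eq (by rw [Nat.card_zpowers, Nat.card_zpowers, Subgroup.orderOf_coe, a.2]))⟩
      left_inv := fun w => rfl
      right_inv := fun a => rfl }
  rw [Nat.card_congr e, Nat.card_eq_fintype_card, Fintype.card_subtype,
    IsCyclic.card_orderOf_eq_totient (by rw [← Nat.card_eq_fintype_card, Nat.card_zpowers])]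

/-- A sum of a function that only depends on the generated cyclic subgroup. -/
theorem dvd_sum_of_zpowers_invariant [Finite G] (s : Finset G) (f : G → ℕ) (d : ℕ)
    (hs : ∀ u w, u ∈ s → zpowers w = zpowers u → w ∈ s)
    (hf : ∀ u w, u ∈ s → zpowers w = zpowers u → f w = f u)
    (h : ∀ u ∈ s, d ∣ (orderOf u).totient * f u) : d ∣ ∑ u ∈ s, f u := by
  classical
  rw [← Finset.sum_fiberwise_of_maps_to (t := s.image zpowers) (g := zpowers)
    (fun x hx => Finset.mem_image_of_mem _ hx)]
  refine Finset.dvd_sum fun c hc => ?_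
  obtain ⟨u, hu, rfl⟩ := Finset.mem_image.mp hc
  rw [Finset.sum_congr rfl (fun x hx => hf u x hu (Finset.mem_filter.mp hx).2), Finset.sum_const,
    smul_eq_mul]
  have : Fintype G := Fintype.ofFinite G
  have h1 : s.filter (fun x => zpowers x = zpowers u)
      = (Finset.univ.filter fun x => zpowers x = zpowers u) := by
    ext x
    simp only [Finset.mem_filter, Finset.mem_univ, true_and]
    exact ⟨fun hx => hx.2, fun hx => ⟨hs u x hu hx, hx⟩⟩
  rw [h1, ← Fintype.card_subtype, ← Nat.card_eq_fintype_card, card_generators]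
  exact h u hu

/-- Splitting an element `x` with `x ^ (a * b) = 1` into its `a`-part and its `b`-part. -/
theorem card_split [Finite G] (a b : ℕ) (hab : a.Coprime b) (P : ℕ → Prop) :
    Nat.card {x : G // x ^ (a * b) = 1 ∧ P (orderOf x)} =
      Nat.card (Σ u : {u : G // u ^ a = 1},
        {v : G // Commute u.1 v ∧ v ^ b = 1 ∧ P (orderOf u.1 * orderOf v)}) := by
  have hz : (a : ℤ) * Nat.gcdA a b + (b : ℤ) * Nat.gcdB a b = 1 := by
    rw [← Nat.gcd_eq_gcd_ab, hab.gcd_eq_one]; rfl
  set s := (a : ℤ) * Nat.gcdA a b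
  set t := (b : ℤ) * Nat.gcdB a b
  have hta : ∀ x : G, x ^ (a * b) = 1 → (x ^ t) ^ a = 1 := by
    intro x hx
    rw [← zpow_natCast, ← zpow_mul, show t * (a : ℤ) = ((a * b : ℕ) : ℤ) * Nat.gcdB a b by
      push_cast; ring, zpow_mul, zpow_natCast, hx, one_zpow]
  have hsb : ∀ x : G, x ^ (a * b) = 1 → (x ^ s) ^ b = 1 := by
    intro x hx
    rw [← zpow_natCast, ← zpow_mul, show s * (b : ℤ) = ((a * b : ℕ) : ℤ) * Nat.gcdA a b by
      push_cast; ring, zpow_mul, zpow_natCast, hx, one_zpow]
  have hmul : ∀ x : G, x ^ t * x ^ s = x := fun x => by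
    rw [← zpow_add, add_comm, hz, zpow_one]
  have hord : ∀ u v : G, Commute u v → u ^ a = 1 → v ^ b = 1 →
      orderOf (u * v) = orderOf u * orderOf v := fun u v hc hu hv =>
    hc.orderOf_mul_eq_mul_orderOf_of_coprime
      ((hab.coprime_dvd_left (orderOf_dvd_of_pow_eq_one hu)).coprime_dvd_right
        (orderOf_dvd_of_pow_eq_one hv))
  have hu : ∀ u v : G, Commute u v → u ^ a = 1 → v ^ b = 1 → (u * v) ^ t = u := by
    intro u v hc hu hv
    have h1 : v ^ t = 1 := by rw [zpow_mul, zpow_natCast, hv, one_zpow]
    have h2 : u ^ s = 1 := by rw [zpow_mul, zpow_natCast, hu, one_zpow]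
    rw [hc.mul_zpow, h1, mul_one]
    calc u ^ t = u ^ t * u ^ s := by rw [h2, mul_one]
      _ = u := hmul u
  have hv : ∀ u v : G, Commute u v → u ^ a = 1 → v ^ b = 1 → (u * v) ^ s = v := by
    intro u v hc hu' hv'
    have := hmul (u * v)
    rw [hu u v hc hu' hv'] at this
    exact mul_left_cancel this
  refine Nat.card_congr
    { toFun := fun x => ⟨⟨x.1 ^ t, hta _ x.2.1⟩, ⟨x.1 ^ s, Commute.zpow_zpow (Commute.refl _) _ _,
        hsb _ x.2.1, ?_⟩⟩
      invFun := fun p => ⟨p.1.1 * p.2.1, ?_, ?_⟩
      left_inv := fun x => Subtype.ext (hmul x.1)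
      right_inv := fun p => ?_ }
  · rw [← hord (x.1 ^ t) (x.1 ^ s) (Commute.zpow_zpow (Commute.refl _) _ _) (hta _ x.2.1)
      (hsb _ x.2.1), hmul]
    exact x.2.2
  · rw [p.2.2.1.mul_pow, pow_mul, p.1.2, one_pow, one_mul, mul_comm, pow_mul, p.2.2.2.1, one_pow]
  · rw [hord _ _ p.2.2.1 p.1.2 p.2.2.2.1]; exact p.2.2.2.2
  · obtain ⟨⟨u, hu'⟩, ⟨v, hc, hv', hP⟩⟩ := p
    have e1 := hu u v hc hu' hv'
    have e2 := hv u v hc hu' hv'
    refine Sigma.subtype_ext (Subtype.ext e1) ?_
    exact e2

/-- The solutions in the centralizer of `u` of `v ^ b = 1`, `b` prime to the order of `u`,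
correspond to the solutions in the quotient of the centralizer by `⟨u⟩`. -/
theorem card_centralizer_quotient [Finite G] (u : G) (b : ℕ) (hb : (orderOf u).Coprime b)
    [((zpowers u).subgroupOf (centralizer ({u} : Set G))).Normal] :
    Nat.card {v : G // Commute u v ∧ v ^ b = 1} =
      Nat.card {w : ↥(centralizer ({u} : Set G)) ⧸
        (zpowers u).subgroupOf (centralizer ({u} : Set G)) // w ^ b = 1} := by
  set C := centralizer ({u} : Set G) with hC
  set U := (zpowers u).subgroupOf C with hU
  have hmem : ∀ v : G, v ∈ C ↔ Commute u v := fun v => by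
    rw [hC, mem_centralizer_singleton_iff]
    exact ⟨fun h => h.symm, fun h => h.symm⟩
  have huC : u ∈ C := (hmem u).2 (Commute.refl u)
  have hpu : ∀ i : ℤ, (u ^ i) ^ b = 1 → u ^ i = 1 := fun i hi =>
    orderOf_eq_one_iff.1 (Nat.eq_one_of_dvd_coprimes hb
      (orderOf_dvd_of_pow_eq_one (by rw [← zpow_natCast, ← zpow_mul, mul_comm, zpow_mul,
        zpow_natCast, pow_orderOf_eq_one, one_zpow]))
      (orderOf_dvd_of_pow_eq_one hi))
  refine Nat.card_congr (Equiv.ofBijective
    (fun v => ⟨QuotientGroup.mk (⟨v.1, (hmem _).2 v.2.1⟩ : C), ?_⟩) ⟨?_, ?_⟩)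
  · rw [← QuotientGroup.mk_pow]
    have : (⟨v.1, (hmem _).2 v.2.1⟩ : C) ^ b = 1 := Subtype.ext v.2.2
    rw [this]; rfl
  · rintro ⟨v, hv, hvb⟩ ⟨w, hw, hwb⟩ h
    simp only [Subtype.mk.injEq] at h
    rw [QuotientGroup.eq] at h
    obtain ⟨i, hi⟩ := mem_zpowers_iff.1 (mem_subgroupOf.1 h)
    simp only [coe_mul, InvMemClass.coe_inv] at hi
    have hvw : w = v * u ^ i := by rw [hi]; group
    have h1 : u ^ i = 1 := hpu i (by
      have := hwb
      rwa [hvw, ((hv.symm.zpow_right i)).mul_pow, hvb, one_mul] at this)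
    refine Subtype.ext ?_
    show v = w
    rw [hvw, h1, mul_one]
  · rintro ⟨w, hw⟩
    obtain ⟨⟨c, hc⟩, rfl⟩ := QuotientGroup.mk_surjective w
    rw [← QuotientGroup.mk_pow, QuotientGroup.eq_one_iff] at hw
    obtain ⟨i, hi⟩ := mem_zpowers_iff.1 (mem_subgroupOf.1 hw)
    simp only [SubmonoidClass.coe_pow] at hi
    -- a `b`-th root of `u ^ i`
    obtain ⟨j, hj⟩ : ∃ j : ℤ, (u ^ j) ^ b = u ^ i := by
      obtain ⟨k, hk⟩ := exists_pow_eq_self_of_coprime (x := u) (Nat.Coprime.symm hb)
      refine ⟨(k : ℤ) * i, ?_⟩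
      rw [← zpow_natCast, ← zpow_mul, show (k : ℤ) * i * (b : ℤ) = ((b * k : ℕ) : ℤ) * i by
        push_cast; ring, zpow_mul, zpow_natCast, pow_mul, hk]
    have hcu : Commute c (u ^ j) := (((hmem c).1 hc).symm).zpow_right j
    refine ⟨⟨c * (u ^ j)⁻¹, (hmem _).1 (mul_mem hc (inv_mem (zpow_mem huC j))), ?_⟩,
      Subtype.ext ?_⟩
    · rw [hcu.inv_right.mul_pow, inv_pow, hj, ← hi, mul_inv_cancel]
    · simp only
      rw [QuotientGroup.eq, mem_subgroupOf]
      simp

/-- Solutions of `x ^ m = 1` in terms of `gcd m |G|`. -/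
theorem card_pow_eq_one_gcd [Finite G] (m : ℕ) :
    Nat.card {x : G // x ^ m = 1} = Nat.card {x : G // x ^ m.gcd (Nat.card G) = 1} :=
  Nat.card_congr (Equiv.subtypeEquivRight fun x =>
    ⟨fun h => pow_gcd_eq_one.2 ⟨h, pow_card_eq_one'⟩,
      fun h => orderOf_dvd_iff_pow_eq_one.1
        ((orderOf_dvd_iff_pow_eq_one.2 h).trans (Nat.gcd_dvd_left _ _))⟩)

/-- Frobenius: if `m` divides the order of a finite group, `m` divides the number of solutions
of `x ^ m = 1`. -/
theorem frobenius_dvd : ∀ (N : ℕ) {G : Type u} [Group G] [Finite G], Nat.card G = N →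
    ∀ m : ℕ, m ∣ Nat.card G → m ∣ Nat.card {x : G // x ^ m = 1} := by
  intro N
  induction N using Nat.strong_induction_on with
  | _ N IH =>
    intro G _ _ hN m hm
    classical
    have : Fintype G := Fintype.ofFinite G
    have hpos : 0 < Nat.card G := Nat.card_pos
    -- downward induction on `m`
    induction hk : Nat.card G / m using Nat.strong_induction_on generalizing m with
    | _ k IHm =>
      rcases eq_or_ne (Nat.card G / m) 1 with h1 | h1
      · have : m = Nat.card G := by
          have := Nat.div_mul_cancel hm; rw [h1, one_mul] at this; exact this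
        subst this
        rw [Nat.card_congr (Equiv.subtypeUnivEquiv fun x : G => pow_card_eq_one')]
      obtain ⟨p, hp, hpd⟩ := Nat.exists_prime_and_dvd h1
      have hmpos : 0 < m := Nat.pos_of_dvd_of_pos hm hpos
      have hmp : m * p ∣ Nat.card G :=
        (Nat.mul_dvd_mul_left m hpd).trans (Nat.mul_div_cancel' hm).dvd
      have hlt : Nat.card G / (m * p) < k := by
        rw [← hk, ← Nat.div_div_eq_div_mul]
        exact Nat.div_lt_self (Nat.div_pos (Nat.le_of_dvd hpos hm) hmpos) hp.one_lt
      have hbig : m * p ∣ Nat.card {x : G // x ^ (m * p) = 1} := IHm _ hlt (m * p) hmp rfl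
      -- the difference
      obtain ⟨α, m', hm', rfl⟩ := Nat.exists_eq_pow_mul_and_not_dvd hmpos.ne' p hp.ne_one
      have hcop : (p ^ (α + 1)).Coprime m' :=
        (hp.coprime_iff_not_dvd.2 hm').pow_left _
      have hsub : Nat.card {x : G // x ^ (p ^ α * m' * p) = 1} =
          Nat.card {x : G // x ^ (p ^ α * m') = 1} +
          Nat.card {x : G // x ^ (p ^ (α + 1) * m') = 1 ∧ ¬ orderOf x ∣ p ^ α * m'} := by
        rw [← Nat.card_sum]
        refine Nat.card_congr ?_
        refine ((Equiv.sumCompl fun x : {x : G // x ^ (p ^ α * m' * p) = 1} =>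
          x.1 ^ (p ^ α * m') = 1).symm).trans (Equiv.sumCongr
            ((Equiv.subtypeSubtypeEquivSubtype (p := fun x : G => x ^ (p ^ α * m' * p) = 1)
              (q := fun x : G => x ^ (p ^ α * m') = 1) fun {x} hx => by rw [pow_mul, hx, one_pow]))
            ((Equiv.subtypeSubtypeEquivSubtypeInter (fun x : G => x ^ (p ^ α * m' * p) = 1)
              (fun x => ¬ x ^ (p ^ α * m') = 1)).trans (Equiv.subtypeEquivRight fun x => ?_)))
        rw [show p ^ α * m' * p = p ^ (α + 1) * m' by ring, orderOf_dvd_iff_pow_eq_one]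
      have hA : p ^ α * m' ∣
          Nat.card {x : G // x ^ (p ^ (α + 1) * m') = 1 ∧ ¬ orderOf x ∣ p ^ α * m'} := by
        rw [card_split (p ^ (α + 1)) m' hcop (fun o => ¬ o ∣ p ^ α * m'), Nat.card_sigma]
        set f : G → ℕ := fun u => Nat.card {v : G // Commute u v ∧ v ^ m' = 1} with hf
        set S := Finset.univ.filter fun u : G => orderOf u = p ^ (α + 1) with hS
        have hsum : (∑ u : {u : G // u ^ p ^ (α + 1) = 1},
            Nat.card {v : G // Commute u.1 v ∧ v ^ m' = 1 ∧
              ¬ orderOf u.1 * orderOf v ∣ p ^ α * m'}) = ∑ u ∈ S, f u := by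
          have key : ∀ u : G, u ^ p ^ (α + 1) = 1 → ∀ v : G, v ^ m' = 1 →
              (¬ orderOf u * orderOf v ∣ p ^ α * m' ↔ orderOf u = p ^ (α + 1)) := by
            intro u hu v hv
            obtain ⟨i, hi, hiu⟩ := (Nat.dvd_prime_pow hp).1 (orderOf_dvd_of_pow_eq_one hu)
            have hv' := orderOf_dvd_of_pow_eq_one hv
            rw [hiu]
            constructor
            · intro h
              rcases Nat.lt_or_ge i (α + 1) with h' | h'
              · exact absurd (Nat.mul_dvd_mul (Nat.pow_dvd_pow p (Nat.le_of_lt_succ h')) hv') h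
              · rw [le_antisymm hi h']
            · intro h hd
              rw [h] at hd
              have : p ^ (α + 1) ∣ p ^ α :=
                hcop.dvd_of_dvd_mul_right (dvd_trans (Dvd.intro _ rfl) hd)
              exact absurd ((Nat.pow_dvd_pow_iff_le_right hp.one_lt).1 this) (by omega)
          rw [← Finset.sum_subtype (Finset.univ.filter fun u : G => u ^ p ^ (α + 1) = 1)
            (fun x => by simp) (fun u => Nat.card {v : G // Commute u v ∧ v ^ m' = 1 ∧
              ¬ orderOf u * orderOf v ∣ p ^ α * m'})]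
          rw [show S = (Finset.univ.filter fun u : G => u ^ p ^ (α + 1) = 1).filter
              (fun u => orderOf u = p ^ (α + 1)) by
            ext u
            simp only [hS, Finset.mem_filter, Finset.mem_univ, true_and]
            exact ⟨fun h => ⟨h ▸ pow_orderOf_eq_one u, h⟩, fun h => h.2⟩,
            Finset.sum_filter (fun u => orderOf u = p ^ (α + 1))]
          refine Finset.sum_congr rfl fun u hu => ?_
          simp only [Finset.mem_filter, Finset.mem_univ, true_and] at hu
          split_ifs with h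
          · exact Nat.card_congr (Equiv.subtypeEquivRight fun v =>
              ⟨fun hh => ⟨hh.1, hh.2.1⟩, fun hh => ⟨hh.1, hh.2, (key u hu v hh.2).2 h⟩⟩)
          · have : IsEmpty {v : G // Commute u v ∧ v ^ m' = 1 ∧
                ¬ orderOf u * orderOf v ∣ p ^ α * m'} :=
              ⟨fun v => h ((key u hu v.1 v.2.2.1).1 v.2.2.2)⟩
            exact Nat.card_of_isEmpty
        rw [hsum]
        refine (((hp.coprime_iff_not_dvd.2 hm').pow_left α)).mul_dvd_of_dvd_of_dvd ?_ ?_
        · refine dvd_sum_of_zpowers_invariant S f _ ?_ ?_ ?_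
          · intro u w hu hw
            simp only [hS, Finset.mem_filter, Finset.mem_univ, true_and] at hu ⊢
            rw [← hu, ← Nat.card_zpowers, hw, Nat.card_zpowers]
          · intro u w _ hw
            refine Nat.card_congr (Equiv.subtypeEquivRight fun v => and_congr_left fun _ => ?_)
            have key : ∀ a b : G, zpowers a = zpowers b → Commute a v → Commute b v := by
              intro a b hab hc
              obtain ⟨i, hi⟩ := mem_zpowers_iff.1 (hab ▸ mem_zpowers b)
              exact hi ▸ hc.zpow_left i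
            exact ⟨key w u hw, key u w hw.symm⟩
          · intro u hu
            simp only [hS, Finset.mem_filter, Finset.mem_univ, true_and] at hu
            rw [hu, Nat.totient_prime_pow_succ hp, mul_assoc]
            exact Dvd.intro _ rfl
        · refine dvd_sum_of_conj_invariant S f _ ?_ ?_ ?_
          · intro g u hu
            simp only [hS, Finset.mem_filter, Finset.mem_univ, true_and] at hu ⊢
            rw [orderOf_conj', hu]
          · intro g u _
            refine Nat.card_congr (((MulAut.conj g).toEquiv.symm).subtypeEquiv fun v => ?_)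
            simp only [MulEquiv.toEquiv_eq_coe, MulEquiv.coe_toEquiv_symm,
              MulAut.conj_symm_apply]
            refine and_congr ?_ ?_
            · rw [commute_iff_eq, commute_iff_eq]
              constructor <;> intro h
              · calc u * (g⁻¹ * v * g) = g⁻¹ * (g * u * g⁻¹ * v) * g := by group
                  _ = g⁻¹ * (v * (g * u * g⁻¹)) * g := by rw [h]
                  _ = g⁻¹ * v * g * u := by group
              · calc g * u * g⁻¹ * v = g * (u * (g⁻¹ * v * g)) * g⁻¹ := by group
                  _ = g * (g⁻¹ * v * g * u) * g⁻¹ := by rw [h]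
                  _ = v * (g * u * g⁻¹) := by group
            · have h1 : (g⁻¹ * v * g) ^ m' = g⁻¹ * v ^ m' * g := by
                have := conj_pow (i := m') (a := g⁻¹) (b := v)
                simpa using this
              rw [h1, mul_assoc, inv_mul_eq_one, eq_comm (a := g), mul_eq_right]
          · intro u hu
            simp only [hS, Finset.mem_filter, Finset.mem_univ, true_and] at hu
            set C := centralizer ({u} : Set G) with hC
            set U := (zpowers u).subgroupOf C with hU
            have hUn : U.Normal := ⟨fun x hx c => by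
              obtain ⟨i, hi⟩ := mem_zpowers_iff.1 (mem_subgroupOf.1 hx)
              have hc : Commute (c : G) u := mem_centralizer_singleton_iff.1 c.2
              rw [mem_subgroupOf, coe_mul, coe_mul, InvMemClass.coe_inv, ← hi,
                (hc.zpow_right i).eq, mul_inv_cancel_right]
              exact zpow_mem (mem_zpowers u) i⟩
            have hU' : 1 < Nat.card U := by
              rw [Nat.card_congr (subgroupOfEquivOfLe (zpowers_le.2
                (mem_centralizer_singleton_iff.2 rfl))).toEquiv, Nat.card_zpowers, hu]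
              exact Nat.one_lt_pow (Nat.succ_ne_zero α) hp.one_lt
            have hcardC := card_eq_card_quotient_mul_card_subgroup U
            have hq : Nat.card (↥C ⧸ U) < N := by
              calc Nat.card (↥C ⧸ U) < Nat.card (↥C ⧸ U) * Nat.card U :=
                    lt_mul_of_one_lt_right Nat.card_pos hU'
                _ = Nat.card C := hcardC.symm
                _ ≤ N := hN ▸ Nat.card_le_card_of_injective _ Subtype.coe_injective
            have hf' : f u = Nat.card {w : ↥C ⧸ U // w ^ m' = 1} :=
              card_centralizer_quotient u m' (hu ▸ hcop)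
            have hd : m'.gcd (Nat.card (↥C ⧸ U)) ∣ f u := by
              rw [hf', card_pow_eq_one_gcd]
              exact IH _ hq rfl _ (Nat.gcd_dvd_right _ _)
            have hmG : m' ∣ C.index * (Nat.card (↥C ⧸ U)) := by
              have h2 : m' ∣ C.index * (Nat.card (↥C ⧸ U) * Nat.card U) := by
                rw [← hcardC, index_mul_card]
                exact (Dvd.intro_left _ rfl).trans hm
              have hUc : m'.Coprime (Nat.card U) := by
                rw [Nat.card_congr (subgroupOfEquivOfLe (zpowers_le.2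
                  (mem_centralizer_singleton_iff.2 rfl))).toEquiv, Nat.card_zpowers, hu]
                exact hcop.symm
              rw [← mul_assoc] at h2
              exact hUc.dvd_of_dvd_mul_right h2
            calc m' ∣ Nat.gcd (C.index * m') (C.index * Nat.card (↥C ⧸ U)) :=
                  Nat.dvd_gcd (Dvd.intro_left _ rfl) hmG
              _ ∣ C.index * f u := by rw [Nat.gcd_mul_left]; exact Nat.mul_dvd_mul_left _ hd
      have hbig' : p ^ α * m' ∣ Nat.card {x : G // x ^ (p ^ α * m' * p) = 1} :=
        (Dvd.intro p rfl).trans hbig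
      rw [hsub] at hbig'
      exact (Nat.dvd_add_left hA).1 hbig'

theorem dvd_card_pow_eq_one {G : Type u} [Group G] [Finite G] {m : ℕ} (hm : m ∣ Nat.card G) :
    m ∣ Nat.card {x : G // x ^ m = 1} :=
  frobenius_dvd _ rfl m hm

theorem gcd_dvd_card_pow_eq_one {G : Type u} [Group G] [Finite G] (m : ℕ) :
    m.gcd (Nat.card G) ∣ Nat.card {x : G // x ^ m = 1} := by
  rw [card_pow_eq_one_gcd]
  exact dvd_card_pow_eq_one (Nat.gcd_dvd_right _ _)

/-- If `|G| = a * b` with `b` prime to `a` and to `n`, then `b` divides the number of elements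
whose order is a multiple of `n`. -/
theorem coprime_dvd_card_dvd_orderOf {G : Type u} [Group G] [Finite G] (n a b : ℕ)
    (hG : Nat.card G = a * b) (hab : a.Coprime b) (hnb : n.Coprime b) :
    b ∣ Nat.card {g : G // n ∣ orderOf g} := by
  classical
  have : Fintype G := Fintype.ofFinite G
  have h0 : Nat.card {g : G // n ∣ orderOf g}
      = Nat.card {g : G // g ^ (a * b) = 1 ∧ n ∣ orderOf g} :=
    Nat.card_congr (Equiv.subtypeEquivRight fun g =>
      (and_iff_right (hG ▸ pow_card_eq_one')).symm)
  rw [h0, card_split a b hab (fun o => n ∣ o), Nat.card_sigma]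
  set f : G → ℕ := fun u => Nat.card {v : G // Commute u v ∧ v ^ b = 1}
  set S := Finset.univ.filter fun u : G => u ^ a = 1 ∧ n ∣ orderOf u with hS
  have hsum : (∑ u : {u : G // u ^ a = 1}, Nat.card {v : G // Commute u.1 v ∧ v ^ b = 1 ∧
      n ∣ orderOf u.1 * orderOf v}) = ∑ u ∈ S, f u := by
    rw [← Finset.sum_subtype (Finset.univ.filter fun u : G => u ^ a = 1) (fun x => by simp)
      (fun u => Nat.card {v : G // Commute u v ∧ v ^ b = 1 ∧ n ∣ orderOf u * orderOf v})]
    rw [hS, ← Finset.filter_filter, Finset.sum_filter (fun u => n ∣ orderOf u)]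
    refine Finset.sum_congr rfl fun u _ => ?_
    split_ifs with h
    · exact Nat.card_congr (Equiv.subtypeEquivRight fun v =>
        ⟨fun hh => ⟨hh.1, hh.2.1⟩, fun hh => ⟨hh.1, hh.2, h.trans (Dvd.intro _ rfl)⟩⟩)
    · have : IsEmpty {v : G // Commute u v ∧ v ^ b = 1 ∧ n ∣ orderOf u * orderOf v} :=
        ⟨fun v => h ((hnb.coprime_dvd_right (orderOf_dvd_of_pow_eq_one v.2.2.1)).dvd_of_dvd_mul_right
          v.2.2.2)⟩
      exact Nat.card_of_isEmpty
  rw [hsum]
  refine dvd_sum_of_conj_invariant S f _ ?_ ?_ ?_
  · intro g u hu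
    simp only [hS, Finset.mem_filter, Finset.mem_univ, true_and] at hu ⊢
    rw [orderOf_conj', conj_pow, hu.1, mul_one, mul_inv_cancel]
    exact ⟨rfl, hu.2⟩
  · intro g u _
    refine Nat.card_congr (((MulAut.conj g).toEquiv.symm).subtypeEquiv fun v => ?_)
    simp only [MulEquiv.toEquiv_eq_coe, MulEquiv.coe_toEquiv_symm,
      MulAut.conj_symm_apply]
    refine and_congr ?_ ?_
    · rw [commute_iff_eq, commute_iff_eq]
      constructor <;> intro h
      · calc u * (g⁻¹ * v * g) = g⁻¹ * (g * u * g⁻¹ * v) * g := by group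
          _ = g⁻¹ * (v * (g * u * g⁻¹)) * g := by rw [h]
          _ = g⁻¹ * v * g * u := by group
      · calc g * u * g⁻¹ * v = g * (u * (g⁻¹ * v * g)) * g⁻¹ := by group
          _ = g * (g⁻¹ * v * g * u) * g⁻¹ := by rw [h]
          _ = v * (g * u * g⁻¹) := by group
    · have h1 : (g⁻¹ * v * g) ^ b = g⁻¹ * v ^ b * g := by
        have := conj_pow (i := b) (a := g⁻¹) (b := v)
        simpa using this
      rw [h1, mul_assoc, inv_mul_eq_one, eq_comm (a := g), mul_eq_right]
  · intro u _
    set C := centralizer ({u} : Set G) with hC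
    have hf : f u = Nat.card {c : C // c ^ b = 1} := Nat.card_congr
      { toFun := fun v => ⟨⟨v.1, mem_centralizer_singleton_iff.2 v.2.1.symm.eq⟩,
          Subtype.ext v.2.2⟩
        invFun := fun c => ⟨c.1.1, (mem_centralizer_singleton_iff.1 c.1.2).symm,
          by rw [← SubmonoidClass.coe_pow, c.2]; rfl⟩
        left_inv := fun _ => rfl
        right_inv := fun _ => rfl }
    calc b ∣ Nat.gcd (C.index * b) (C.index * Nat.card C) :=
          Nat.dvd_gcd (Dvd.intro_left _ rfl) (by rw [index_mul_card, hG]; exact Dvd.intro_left _ rfl)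
      _ ∣ C.index * f u := by
          rw [Nat.gcd_mul_left, hf]
          exact Nat.mul_dvd_mul_left _ (gcd_dvd_card_pow_eq_one b)

end CfsgLib.OrderCount
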