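import Cfsg.Agent.Lib.OrderCount.Basic

/-!
The numbers of elements of each order: divisibility and congruences.
-/

set_option autoImplicit false

namespace CfsgLib.OrderCount

open Subgroup

universe u

/-- The number of elements of order `m`. -/
noncomputable def cnt (G : Type*) [Group G] (m : ℕ) : ℕ := Nat.card {g : G // orderOf g = m}

variable {G : Type u} [Group G]

theorem cnt_one : cnt G 1 = 1 := by
  have : Subsingleton {g : G // orderOf g = 1} := ⟨fun a b => Subtype.ext
    ((orderOf_eq_one_iff.1 a.2).trans (orderOf_eq_one_iff.1 b.2).symm)⟩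
  have : Nonempty {g : G // orderOf g = 1} := ⟨⟨1, orderOf_one⟩⟩
  exact Nat.card_of_subsingleton ⟨1, orderOf_one⟩

theorem cnt_pos_iff [Finite G] {m : ℕ} : 0 < cnt G m ↔ ∃ g : G, orderOf g = m := by
  constructor
  · intro h
    obtain ⟨⟨g, hg⟩⟩ := (Nat.card_pos_iff.1 h).1
    exact ⟨g, hg⟩
  · rintro ⟨g, hg⟩
    have : Nonempty {g : G // orderOf g = m} := ⟨⟨g, hg⟩⟩
    exact Nat.card_pos

theorem cnt_pos_of_dvd [Finite G] {m e : ℕ} (h : 0 < cnt G m) (he : e ∣ m) : 0 < cnt G e := by
  obtain ⟨g, hg⟩ := cnt_pos_iff.1 h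
  exact cnt_pos_iff.2 ⟨g ^ (m / e), hg ▸ orderOf_pow_orderOf_div (orderOf_pos g).ne' (hg ▸ he)⟩

theorem cnt_pos_prime [Finite G] {p : ℕ} (hp : p.Prime) (h : p ∣ Nat.card G) : 0 < cnt G p := by
  have := Fact.mk hp
  exact cnt_pos_iff.2 (exists_prime_orderOf_dvd_card' p h)

theorem dvd_card_of_cnt_pos [Finite G] {m : ℕ} (h : 0 < cnt G m) : m ∣ Nat.card G := by
  obtain ⟨g, rfl⟩ := cnt_pos_iff.1 h
  exact orderOf_dvd_natCard g

theorem cnt_mem_values [Finite G] {m : ℕ} (h : 0 < cnt G m) :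
    cnt G m ∈ (fun m : ℕ => Nat.card {g : G // orderOf g = m}) '' Set.range (orderOf : G → ℕ) :=
  ⟨m, cnt_pos_iff.1 h, rfl⟩

theorem totient_dvd_cnt [Finite G] (m : ℕ) : m.totient ∣ cnt G m := by
  classical
  have : Fintype G := Fintype.ofFinite G
  have e : cnt G m = ∑ u ∈ Finset.univ.filter (fun u : G => orderOf u = m), 1 := by
    rw [cnt, Nat.card_eq_fintype_card, Fintype.card_subtype, Finset.card_eq_sum_ones]
  rw [e]
  refine dvd_sum_of_zpowers_invariant _ (fun _ => 1) _ ?_ (fun _ _ _ _ => rfl) ?_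
  · intro u w hu hw
    simp only [Finset.mem_filter, Finset.mem_univ, true_and] at hu ⊢
    rw [← hu, ← Nat.card_zpowers, hw, Nat.card_zpowers]
  · intro u hu
    simp only [Finset.mem_filter, Finset.mem_univ, true_and] at hu
    rw [hu, mul_one]

theorem even_cnt [Finite G] {m : ℕ} (hm : 2 < m) : 2 ∣ cnt G m :=
  ((Nat.totient_even hm).two_dvd).trans (totient_dvd_cnt m)

theorem le_two_of_cnt_eq_one [Finite G] {m : ℕ} (h : cnt G m = 1) : m ≤ 2 := by
  by_contra hm
  have := even_cnt (G := G) (lt_of_not_ge hm)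
  omega

theorem prime_dvd_cnt_of_sq_dvd [Finite G] {p m : ℕ} (hp : p.Prime) (h : p ^ 2 ∣ m) :
    p ∣ cnt G m := by
  refine dvd_trans ?_ ((Nat.totient_dvd_of_dvd h).trans (totient_dvd_cnt m))
  rw [Nat.totient_prime_pow hp two_pos]
  exact dvd_mul_of_dvd_left (dvd_pow_self p (by omega)) _

theorem card_pow_eq_one_prime_mul [Finite G] {p d : ℕ} (hp : p.Prime) (hd : 0 < d)
    (hpd : p.Coprime d) :
    Nat.card {x : G // x ^ (p * d) = 1} = ∑ e ∈ d.divisors, (cnt G e + cnt G (p * e)) := by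
  classical
  have : Fintype G := Fintype.ofFinite G
  let f : G → ℕ := fun x => if p ∣ orderOf x then orderOf x / p else orderOf x
  rw [Nat.card_eq_fintype_card, Fintype.card_subtype,
    Finset.card_eq_sum_card_fiberwise (f := f) (t := d.divisors)]
  · refine Finset.sum_congr rfl fun e he => ?_
    obtain ⟨hed, -⟩ := Nat.mem_divisors.1 he
    have hpe : ¬ p ∣ e := fun h => (hp.coprime_iff_not_dvd.1 hpd) (h.trans hed)
    simp only [cnt, Nat.card_eq_fintype_card, Fintype.card_subtype]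
    rw [← Finset.card_union_of_disjoint]
    · refine congrArg Finset.card (Finset.ext fun x => ?_)
      simp only [Finset.mem_filter, Finset.mem_univ, true_and, Finset.mem_union, f,
        ← orderOf_dvd_iff_pow_eq_one]
      constructor
      · rintro ⟨-, h⟩
        split_ifs at h with h'
        · exact Or.inr (by rw [← h, Nat.mul_div_cancel' h'])
        · exact Or.inl h
      · rintro (h | h)
        · exact ⟨h ▸ hed.mul_left p, by rw [h, if_neg hpe]⟩
        · exact ⟨h ▸ Nat.mul_dvd_mul_left p hed,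
            by rw [h, if_pos (Dvd.intro e rfl), Nat.mul_div_cancel_left e hp.pos]⟩
    · rw [Finset.disjoint_left]
      intro x hx hx'
      simp only [Finset.mem_filter, Finset.mem_univ, true_and] at hx hx'
      exact hpe ⟨e, hx.symm.trans hx'⟩
  · intro x hx
    simp only [Finset.coe_filter, Finset.mem_univ, true_and, Set.mem_ofPred_eq,
      ← orderOf_dvd_iff_pow_eq_one] at hx
    simp only [Finset.mem_coe, Nat.mem_divisors, f]
    refine ⟨?_, hd.ne'⟩
    split_ifs with h
    · obtain ⟨c, hc⟩ := h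
      rw [hc, Nat.mul_div_cancel_left c hp.pos]
      rw [hc] at hx
      exact Nat.dvd_of_mul_dvd_mul_left hp.pos hx
    · exact (hp.coprime_iff_not_dvd.2 h).symm.dvd_of_dvd_mul_left hx

/-- For a prime `p` dividing the order and `d` prime to `p`, the numbers of elements of orders
`d` and `p * d` add up to a multiple of `p`. -/
theorem prime_dvd_cnt_add [Finite G] {p : ℕ} (hp : p.Prime) (hpG : p ∣ Nat.card G) :
    ∀ d : ℕ, 0 < d → p.Coprime d → p ∣ cnt G d + cnt G (p * d) := by
  intro d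
  induction d using Nat.strong_induction_on with
  | _ d IH =>
    intro hd hpd
    have h : p ∣ Nat.card {x : G // x ^ (p * d) = 1} :=
      (Nat.dvd_gcd (Dvd.intro d rfl) hpG).trans (gcd_dvd_card_pow_eq_one (p * d))
    rw [card_pow_eq_one_prime_mul hp hd hpd,
      ← Finset.add_sum_erase _ _ (Nat.mem_divisors_self d hd.ne')] at h
    refine (Nat.dvd_add_left (Finset.dvd_sum fun e he => ?_)).1 h
    obtain ⟨hne, he⟩ := Finset.mem_erase.1 he
    obtain ⟨hed, -⟩ := Nat.mem_divisors.1 he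
    exact IH e (lt_of_le_of_ne (Nat.le_of_dvd hd hed) hne) (Nat.pos_of_dvd_of_pos hed hd)
      (hpd.coprime_dvd_right hed)

theorem prime_dvd_one_add_cnt [Finite G] {p : ℕ} (hp : p.Prime) (hpG : p ∣ Nat.card G) :
    p ∣ 1 + cnt G p := by
  simpa [cnt_one] using prime_dvd_cnt_add hp hpG 1 one_pos (Nat.coprime_one_right p)

/-- The congruence in integers modulo `p`. -/
theorem cnt_prime_mul_eq_neg [Finite G] {p d : ℕ} (hp : p.Prime) (hpG : p ∣ Nat.card G)
    (hd : 0 < d) (hpd : p.Coprime d) : (cnt G (p * d) : ZMod p) = - (cnt G d : ZMod p) := by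
  rw [eq_neg_iff_add_eq_zero, add_comm, ← Nat.cast_add, ZMod.natCast_eq_zero_iff]
  exact prime_dvd_cnt_add hp hpG d hd hpd

theorem cnt_prime_eq_neg_one [Finite G] {p : ℕ} (hp : p.Prime) (hpG : p ∣ Nat.card G) :
    (cnt G p : ZMod p) = -1 := by
  simpa [cnt_one] using cnt_prime_mul_eq_neg hp hpG one_pos (Nat.coprime_one_right p)

end CfsgLib.OrderCount
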