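import Cfsg.Agent.Lib.OrderCount.ClassSize
import Cfsg.Agent.Lib.SubgroupCount.Basic

/-!
Miller's theorem: if the Sylow `p`-subgroups, `p` odd, are not cyclic, the number of elements of
order `p ^ s * m` (`1 < s`, `m` prime to `p`) is a multiple of `p ^ s`.
-/

set_option autoImplicit false

namespace CfsgLib.OrderCount

open Subgroup

universe u

variable {G : Type u} [Group G]

theorem card_orderOf_zpowers [Finite G] (m : ℕ) (Q : Subgroup G → Prop) :
    Nat.card {g : G // orderOf g = m ∧ Q (zpowers g)} =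
      Nat.card {U : Subgroup G // IsCyclic U ∧ Nat.card U = m ∧ Q U} * m.totient := by
  classical
  have : Fintype G := Fintype.ofFinite G
  let f : {g : G // orderOf g = m ∧ Q (zpowers g)} →
      {U : Subgroup G // IsCyclic U ∧ Nat.card U = m ∧ Q U} :=
    fun g => ⟨zpowers g.1, inferInstance, by rw [Nat.card_zpowers, g.2.1], g.2.2⟩
  rw [← Nat.card_congr (Equiv.sigmaFiberEquiv f), Nat.card_sigma,
    Finset.sum_congr rfl (fun U _ => (?_ : Nat.card {g // f g = U} = m.totient)), Finset.sum_const,
    Finset.card_univ, ← Nat.card_eq_fintype_card, smul_eq_mul]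
  obtain ⟨U, hU, hUm, hQ⟩ := U
  obtain ⟨⟨u, huU⟩, hu⟩ := hU.exists_generator
  have hUu : U = zpowers u := le_antisymm (fun z hz => by
    obtain ⟨i, hi⟩ := mem_zpowers_iff.1 (hu ⟨z, hz⟩)
    exact ⟨i, congrArg Subtype.val hi⟩) (zpowers_le.2 huU)
  subst hUu
  have hum : orderOf u = m := by rw [← Nat.card_zpowers, hUm]
  refine Eq.trans ?_ ((card_generators u).trans (congrArg Nat.totient hum))
  exact Nat.card_congr
    { toFun := fun g => ⟨g.1.1, congrArg Subtype.val g.2⟩
      invFun := fun w => ⟨⟨w.1, by rw [← Nat.card_zpowers, w.2, hUm], by rw [w.2]; exact hQ⟩,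
        Subtype.ext w.2⟩
      left_inv := fun _ => rfl
      right_inv := fun _ => rfl }

/-- `(x * y) ^ k` when the commutator `c` of `x` and `y` commutes with both. -/
theorem mul_pow_of_central {x y c : G} (hyx : y * x = x * y * c) (hcx : Commute c x)
    (hcy : Commute c y) : ∀ k : ℕ, (x * y) ^ k = x ^ k * y ^ k * c ^ k.choose 2 := by
  have h1 : ∀ k : ℕ, y ^ k * x = x * y ^ k * c ^ k := by
    intro k
    induction k with
    | zero => simp
    | succ k ih =>
      calc y ^ (k + 1) * x = y ^ k * (y * x) := by rw [pow_succ, mul_assoc]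
        _ = y ^ k * x * (y * c) := by rw [hyx]; group
        _ = x * y ^ k * (c ^ k * y) * c := by rw [ih]; group
        _ = x * y ^ k * (y * c ^ k) * c := by rw [(hcy.pow_left k).eq]
        _ = x * y ^ (k + 1) * c ^ (k + 1) := by rw [pow_succ, pow_succ]; group
  intro k
  induction k with
  | zero => simp
  | succ k ih =>
    have h2 : c ^ k * y = y * c ^ k := (hcy.pow_left k).eq
    have h3 : c ^ k.choose 2 * (x * y) = x * y * c ^ k.choose 2 :=
      ((hcx.mul_right hcy).pow_left _).eq
    have h4 : (k + 1).choose 2 = k + k.choose 2 := by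
      rw [Nat.choose_succ_succ, Nat.choose_one_right]
    calc (x * y) ^ (k + 1) = x ^ k * y ^ k * (c ^ k.choose 2 * (x * y)) := by
          rw [pow_succ, ih]; group
      _ = x ^ k * (y ^ k * x) * y * c ^ k.choose 2 := by rw [h3]; group
      _ = x ^ k * x * y ^ k * (c ^ k * y) * c ^ k.choose 2 := by rw [h1]; group
      _ = x ^ k * x * y ^ k * (y * c ^ k) * c ^ k.choose 2 := by rw [h2]
      _ = x ^ (k + 1) * y ^ (k + 1) * (c ^ k * c ^ k.choose 2) := by
          rw [pow_succ, pow_succ]; group
      _ = x ^ (k + 1) * y ^ (k + 1) * c ^ ((k + 1).choose 2) := by rw [h4, pow_add c]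

/-- In a noncyclic group of order `p ^ (l + 3)`, `p` odd, with an element of order `p ^ (l + 2)`,
there are `p ^ (l + 3) - p ^ (l + 2)` such elements. -/
theorem pow_dvd_cnt_max' [Finite G] {p l : ℕ} [hp : Fact p.Prime]
    (hp2 : p = 2 → 4 < (commutator G).index)
    (hG : Nat.card G = p ^ (l + 3)) (hnc : ¬ IsCyclic G) :
    p ^ (l + 2) ∣ cnt G (p ^ (l + 2)) := by
  classical
  rcases Nat.eq_zero_or_pos (cnt G (p ^ (l + 2))) with h0 | h0
  · simp [h0]
  obtain ⟨a, ha⟩ := cnt_pos_iff.1 h0
  set A := zpowers a with hA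
  have hAi : A.index = p := by
    have h := A.card_mul_index
    rw [hA, Nat.card_zpowers, ha, hG, pow_succ p (l + 2)] at h
    exact Nat.eq_of_mul_eq_mul_left (pow_pos hp.out.pos _) h
  have hAn : A.Normal := normal_of_index_eq_minFac_card (by
    rw [hAi, hG, Nat.pow_minFac (by omega), hp.out.minFac_eq])
  have hexp : ∀ x : G, x ^ p ^ (l + 2) = 1 := fun x => by
    obtain ⟨i, hi, hi'⟩ := (Nat.dvd_prime_pow hp.out).1 (hG ▸ orderOf_dvd_natCard x)
    refine orderOf_dvd_iff_pow_eq_one.1 (hi' ▸ pow_dvd_pow p ?_)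
    by_contra hlt
    exact hnc (isCyclic_of_orderOf_eq_card x (by rw [hi', hG, show i = l + 3 by omega]))
  set e := a ^ p ^ (l + 1) with he
  have hediv : ∀ z : ℤ, (p : ℤ) ^ (l + 1) ∣ z → a ^ z ∈ zpowers e := by
    rintro z ⟨t, rfl⟩
    refine ⟨t, ?_⟩
    show e ^ t = _
    rw [he, ← zpow_natCast, ← zpow_mul]
    push_cast
    rfl
  have heo : orderOf e = p := by
    have h := orderOf_pow_orderOf_div (x := a) (n := p) (orderOf_pos a).ne'
      (ha ▸ dvd_pow_self p (by omega))
    rwa [ha, show p ^ (l + 2) / p = p ^ (l + 1) by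
      rw [pow_succ, Nat.mul_div_cancel _ hp.out.pos]] at h
  -- conjugation moves `a` within `⟨e⟩`
  have hconj : ∀ g : G, ∃ r : ℤ, g * a * g⁻¹ = a ^ r ∧ (p : ℤ) ^ (l + 1) ∣ r - 1 := by
    intro g
    obtain ⟨r, hr⟩ := mem_zpowers_iff.1 (hAn.conj_mem a (mem_zpowers a) g)
    refine ⟨r, hr.symm, ?_⟩
    have hiter : ∀ m : ℕ, g ^ m * a * (g ^ m)⁻¹ = a ^ (r ^ m) := by
      intro m
      induction m with
      | zero => simp
      | succ m ih =>
        calc g ^ (m + 1) * a * (g ^ (m + 1))⁻¹ = g * (g ^ m * a * (g ^ m)⁻¹) * g⁻¹ := by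
              rw [pow_succ']; group
          _ = (g * a * g⁻¹) ^ (r ^ m) := by rw [ih, conj_zpow]
          _ = a ^ (r ^ (m + 1)) := by rw [← hr, ← zpow_mul, pow_succ']
    obtain ⟨i, hi⟩ := mem_zpowers_iff.1 (show g ^ p ∈ zpowers a from hAi ▸ A.pow_index_mem g)
    have h1 : a ^ (r ^ p - 1) = 1 := by
      rw [zpow_sub_one, ← hiter, ← hi, ((Commute.refl a).zpow_left _).eq, mul_inv_cancel_right,
        mul_inv_cancel]
    rw [← orderOf_dvd_iff_zpow_eq_one, ha] at h1
    push_cast at h1
    have hr1 : (p : ℤ) ∣ r - 1 := by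
      have h3 : ((r : ZMod p)) ^ p = 1 := by
        have := (ZMod.intCast_zmod_eq_zero_iff_dvd _ p).2
          ((dvd_pow_self (p : ℤ) (by omega : l + 2 ≠ 0)).trans h1)
        push_cast at this
        exact sub_eq_zero.1 this
      rw [ZMod.pow_card] at h3
      refine (ZMod.intCast_zmod_eq_zero_iff_dvd _ p).1 ?_
      push_cast
      rw [h3, sub_self]
    obtain ⟨t, ht⟩ := hr1
    obtain ⟨w, hsum⟩ : ∃ w : ℤ, ∑ i ∈ Finset.range p, r ^ i = (p : ℤ) * (1 + p * w) := by
      rcases eq_or_ne p 2 with h2p | h2p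
      · subst h2p
        obtain ⟨j, hj, hj'⟩ := (Nat.dvd_prime_pow Nat.prime_two).1
          (show Nat.card (commutator G) ∣ 2 ^ (l + 3) from hG ▸ card_subgroup_dvd_card _)
        have hjl : j ≤ l := by
          by_contra hjl
          have h := (commutator G).index_mul_card
          rw [hj', hG] at h
          have h1 : 2 ^ (l + 1) ≤ 2 ^ j := Nat.pow_le_pow_right two_pos (by omega)
          have h2 := hp2 rfl
          have h3 : 4 * 2 ^ (l + 1) < (commutator G).index * 2 ^ j :=
            lt_of_lt_of_le (Nat.mul_lt_mul_of_pos_right h2 (pow_pos two_pos _))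
              (Nat.mul_le_mul_left _ h1)
          rw [h] at h3
          have : (4 : ℕ) * 2 ^ (l + 1) = 2 ^ (l + 3) := by ring
          omega
        have hmem : g * a * g⁻¹ * a⁻¹ ∈ commutator G :=
          commutator_mem_commutator (mem_top g) (mem_top a)
        have h4 : (a ^ (r - 1)) ^ (2 ^ l) = 1 := by
          rw [zpow_sub_one, hr]
          refine orderOf_dvd_iff_pow_eq_one.1 ?_
          refine dvd_trans ?_ (pow_dvd_pow 2 hjl)
          rw [← hj']
          exact orderOf_dvd_natCard _ hmem
        rw [← zpow_natCast, ← zpow_mul, ← orderOf_dvd_iff_zpow_eq_one, ha] at h4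
        push_cast at h4
        rw [show (2 : ℤ) ^ (l + 2) = 4 * 2 ^ l by ring] at h4
        have h5 := Int.dvd_of_mul_dvd_mul_right (pow_ne_zero _ (by norm_num)) h4
        obtain ⟨w, hw⟩ := h5
        refine ⟨w, ?_⟩
        simp [Finset.sum_range_succ]
        linarith
      · have h2 := odd_sq_dvd_geom_sum₂_sub (p := p) (R := ℤ) 1 t (hp.out.odd_of_ne_two h2p)
        simp only [one_pow, mul_one, show (1 : ℤ) + p * t = r by linarith] at h2
        obtain ⟨w, hw⟩ := h2
        exact ⟨w, by linarith⟩
    rw [← geom_sum_mul, hsum, pow_succ', mul_assoc] at h1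
    have h5 := Int.dvd_of_mul_dvd_mul_left (by exact_mod_cast hp.out.ne_zero) h1
    refine IsCoprime.dvd_of_dvd_mul_left ?_ h5
    exact IsCoprime.pow_left ⟨-w, 1, by ring⟩
  -- `⟨e⟩` is central
  have hec : ∀ g : G, Commute e g := by
    intro g
    obtain ⟨r, hr, hr1⟩ := hconj g
    have h1 : g * e * g⁻¹ = e := by
      rw [he, ← conj_pow, hr, ← zpow_natCast, ← zpow_mul,
        show a ^ (p ^ (l + 1)) = a ^ ((p ^ (l + 1) : ℕ) : ℤ) from (zpow_natCast _ _).symm,
        ← mul_inv_eq_one, ← zpow_sub, ← orderOf_dvd_iff_zpow_eq_one, ha]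
      obtain ⟨t, ht⟩ := hr1
      refine ⟨(p : ℤ) ^ l * t, ?_⟩
      rw [show r = 1 + (p : ℤ) ^ (l + 1) * t by linarith]
      push_cast
      ring
    show e * g = g * e
    calc e * g = g * e * g⁻¹ * g := by rw [h1]
      _ = g * e := by group
  have hEn : (zpowers e).Normal := ⟨fun x hx g => by
    obtain ⟨i, rfl⟩ := mem_zpowers_iff.1 hx
    rw [((hec g).symm.zpow_right i).eq, mul_inv_cancel_right]
    exact zpow_mem (mem_zpowers e) i⟩
  -- the quotient by `⟨e⟩` is abelian
  have hab : ∀ x y : G ⧸ zpowers e, Commute x y := by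
    set π := QuotientGroup.mk' (zpowers e)
    have hcen : π a ∈ center (G ⧸ zpowers e) := by
      rw [mem_center_iff]
      intro y
      obtain ⟨g, rfl⟩ := QuotientGroup.mk'_surjective _ y
      obtain ⟨r, hr, hr1⟩ := hconj g
      have h1 : π (g * a * g⁻¹) = π a := by
        rw [hr, ← mul_inv_eq_one, ← map_inv, ← map_mul, QuotientGroup.mk'_apply,
          QuotientGroup.eq_one_iff, ← zpow_sub_one]
        exact hediv _ hr1
      rw [map_mul, map_mul, map_inv] at h1
      exact mul_inv_eq_iff_eq_mul.1 h1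
    obtain ⟨b, hb⟩ : ∃ b : G, b ∉ A := by
      by_contra hall
      push Not at hall
      have := index_eq_one.2 ((eq_top_iff' A).2 hall)
      rw [hAi] at this
      exact hp.out.ne_one this
    set H := closure ({π a, π b} : Set (G ⧸ zpowers e))
    have hHc : IsMulCommutative H := by
      refine isMulCommutative_closure ?_
      intro x hx y hy
      simp only [Set.mem_insert_iff, Set.mem_singleton_iff] at hx hy
      rcases hx with rfl | rfl <;> rcases hy with rfl | rfl
      · rfl
      · exact (mem_center_iff.1 hcen _).symm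
      · exact mem_center_iff.1 hcen _
      · rfl
    have htop : H.comap π = ⊤ := by
      have hAH : A ≤ H.comap π := zpowers_le.2 (subset_closure (by simp))
      have hbH : b ∈ H.comap π := subset_closure (by simp)
      have h1 := index_dvd_of_le hAH
      rw [hAi] at h1
      rcases (Nat.dvd_prime hp.out).1 h1 with h | h
      · exact index_eq_one.1 h
      · exfalso
        refine hb ((eq_of_le_of_card_ge hAH (le_of_eq ?_)).symm ▸ hbH)
        have e1 := A.card_mul_index
        have e2 := (H.comap π).card_mul_index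
        rw [h] at e2
        rw [hAi] at e1
        exact Nat.eq_of_mul_eq_mul_right hp.out.pos (e2.trans e1.symm)
    intro x y
    obtain ⟨g, rfl⟩ := QuotientGroup.mk'_surjective _ x
    obtain ⟨g', rfl⟩ := QuotientGroup.mk'_surjective _ y
    have hg : π g ∈ H := (show g ∈ H.comap π from htop ▸ mem_top g)
    have hg' : π g' ∈ H := (show g' ∈ H.comap π from htop ▸ mem_top g')
    exact congrArg Subtype.val (hHc.is_comm.comm (⟨_, hg⟩ : H) ⟨_, hg'⟩)
  -- the power map
  have hhom : ∀ x y : G, (x * y) ^ p ^ (l + 1) = x ^ p ^ (l + 1) * y ^ p ^ (l + 1) := by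
    intro x y
    set c := (x * y)⁻¹ * (y * x) with hc
    have hce : c ∈ zpowers e := by
      rw [← QuotientGroup.eq_one_iff, hc, QuotientGroup.mk_mul, QuotientGroup.mk_inv,
        QuotientGroup.mk_mul, QuotientGroup.mk_mul, (hab x y).eq, inv_mul_cancel]
    have hcz : ∀ g : G, Commute c g := fun g => by
      obtain ⟨i, hi⟩ := mem_zpowers_iff.1 hce
      exact hi ▸ (hec g).zpow_left i
    have hcp : c ^ p = 1 := by
      obtain ⟨i, hi⟩ := mem_zpowers_iff.1 hce
      rw [← hi, ← zpow_natCast, ← zpow_mul, mul_comm, zpow_mul, zpow_natCast, ← heo,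
        pow_orderOf_eq_one, one_zpow]
    rw [mul_pow_of_central (c := c) (by rw [hc]; group) (hcz x) (hcz y)]
    rcases eq_or_ne (p ^ (l + 1)) 2 with h2p | h2p
    · -- the order is eight and the group is abelian
      have h1 : p ∣ 2 := h2p ▸ dvd_pow_self p (by omega)
      obtain rfl : p = 2 := (Nat.prime_dvd_prime_iff_eq hp.out Nat.prime_two).1 h1
      obtain rfl : l = 0 := by
        have h3 : 2 ^ (l + 1) = 2 ^ 1 := h2p.trans (pow_one 2).symm
        have := Nat.pow_right_injective le_rfl h3
        omega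
      have h3 := (commutator G).index_mul_card
      rw [hG] at h3
      have h4 := hp2 rfl
      have h5 : Nat.card (commutator G) = 1 := by
        have := Nat.card_pos (α := commutator G)
        by_contra hne
        have : 5 * 2 ≤ (commutator G).index * Nat.card (commutator G) :=
          Nat.mul_le_mul h4 (by omega)
        rw [h3] at this
        norm_num at this
      have h6 : c ∈ commutator G := by
        rw [hc, mul_inv_rev, ← mul_assoc]
        have := commutator_mem_commutator (g₁ := y⁻¹) (g₂ := x⁻¹) (mem_top _) (mem_top _)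
        rw [commutatorElement_def, inv_inv, inv_inv] at this
        exact this
      rw [card_eq_one.1 h5, mem_bot] at h6
      rw [h6, one_pow, mul_one]
    obtain ⟨t, ht⟩ := hp.out.dvd_choose_pow (k := 2) (n := l + 1) (by norm_num) h2p.symm
    rw [ht, pow_mul, hcp, one_pow, mul_one]
  let φ : G →* G := MonoidHom.mk' (fun x => x ^ p ^ (l + 1)) hhom
  have hrange : φ.range ≤ zpowers e := by
    rintro _ ⟨x, rfl⟩
    show x ^ p ^ (l + 1) ∈ zpowers e
    obtain ⟨i, hi⟩ := mem_zpowers_iff.1 (show x ^ p ∈ zpowers a from hAi ▸ A.pow_index_mem x)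
    have h1 : (a ^ i) ^ p ^ (l + 1) = 1 := by
      rw [hi, ← pow_mul, ← pow_succ', hexp]
    rw [← zpow_natCast, ← zpow_mul, ← orderOf_dvd_iff_zpow_eq_one, ha] at h1
    push_cast at h1
    rw [pow_succ' (p : ℤ) (l + 1)] at h1
    have hpi : (p : ℤ) ∣ i := Int.dvd_of_mul_dvd_mul_right
      (pow_ne_zero _ (by exact_mod_cast hp.out.ne_zero)) h1
    rw [pow_succ' p l, pow_mul, ← hi, ← zpow_natCast, ← zpow_mul]
    refine hediv _ ?_
    push_cast
    rw [pow_succ']
    exact mul_dvd_mul_right hpi _
  have hk : Nat.card φ.range ∣ p := heo ▸ Nat.card_zpowers e ▸ card_dvd_of_le hrange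
  have hkc : Nat.card φ.range * Nat.card φ.ker = p ^ (l + 3) := by
    rw [← hG, ← φ.ker.index_mul_card, index_ker]
  have hsplit : Nat.card G = Nat.card φ.ker + cnt G (p ^ (l + 2)) := by
    rw [cnt, ← Nat.card_sum]
    refine Nat.card_congr ((Equiv.sumCompl fun x : G => x ∈ φ.ker).symm.trans
      (Equiv.sumCongr (Equiv.refl _) (Equiv.subtypeEquivRight fun x => ?_)))
    show ¬ (x ^ p ^ (l + 1) = 1) ↔ _
    exact ⟨fun h => orderOf_eq_prime_pow h (hexp x),
      fun h h' => by
        have := Nat.le_of_dvd (pow_pos hp.out.pos _) (h ▸ orderOf_dvd_of_pow_eq_one h')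
        exact absurd (Nat.pow_lt_pow_right hp.out.one_lt (show l + 1 < l + 2 by omega))
          (not_lt.2 this)⟩
  have hker : p ^ (l + 2) ∣ Nat.card φ.ker := by
    rcases (Nat.dvd_prime hp.out).1 hk with h | h
    · rw [h, one_mul] at hkc; rw [hkc]; exact pow_dvd_pow p (by omega)
    · rw [h, pow_succ' p (l + 2)] at hkc
      rw [Nat.eq_of_mul_eq_mul_left hp.out.pos hkc]
  have hall : p ^ (l + 2) ∣ Nat.card G := hG ▸ pow_dvd_pow p (by omega)
  rw [hsplit] at hall
  exact (Nat.dvd_add_right hker).1 hall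

theorem pow_dvd_cnt_max [Finite G] {p l : ℕ} [hp : Fact p.Prime] (hp2 : p ≠ 2)
    (hG : Nat.card G = p ^ (l + 3)) (hnc : ¬ IsCyclic G) :
    p ^ (l + 2) ∣ cnt G (p ^ (l + 2)) :=
  pow_dvd_cnt_max' (fun h => absurd h hp2) hG hnc

theorem prime_dvd_of_mul_totient {p j c : ℕ} (hp : p.Prime)
    (h : p ^ (j + 1) ∣ c * (p ^ (j + 1)).totient) : p ∣ c := by
  rw [Nat.totient_prime_pow_succ hp, pow_succ, show c * (p ^ j * (p - 1)) = p ^ j * (c * (p - 1)) by
    ring] at h
  have h1 := Nat.dvd_of_mul_dvd_mul_left (pow_pos hp.pos j) h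
  refine (hp.coprime_iff_not_dvd.2 fun hd => ?_).dvd_of_dvd_mul_right h1
  have := Nat.le_of_dvd (Nat.sub_pos_of_lt hp.one_lt) hd
  have := hp.two_le
  omega

theorem pow_dvd_mul_totient {p s c : ℕ} (hp : p.Prime) (hs : 0 < s) (h : p ∣ c) :
    p ^ s ∣ c * (p ^ s).totient := by
  obtain ⟨t, rfl⟩ := h
  obtain ⟨j, rfl⟩ : ∃ j, s = j + 1 := ⟨s - 1, by omega⟩
  rw [Nat.totient_prime_pow_succ hp, pow_succ]
  exact ⟨t * (p - 1), by ring⟩

/-- The subgroups of index `p` containing a given element: none, or `1` modulo `p`. -/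
theorem card_index_containing [Finite G] {p n : ℕ} [hp : Fact p.Prime] (hG : Nat.card G = p ^ n)
    (g : G) (hg : zpowers g ≠ ⊤) :
    Nat.card {M : Subgroup G // M.index = p ∧ g ∈ M} ≡ 1 [MOD p] := by
  have hMn : ∀ M : Subgroup G, M.index = p → M.Normal := fun M hM =>
    normal_of_index_eq_minFac_card (by
      rcases Nat.eq_zero_or_pos n with rfl | hn
      · exfalso
        have h := M.index_dvd_card
        rw [hM, hG, pow_zero] at h
        exact hp.out.not_dvd_one h
      · rw [hM, hG, Nat.pow_minFac hn.ne', hp.out.minFac_eq])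
  set N := normalClosure ({g} : Set G) with hN
  -- some subgroup of index `p` contains `g`
  obtain ⟨M₀, hM₀, hgM⟩ : ∃ M : Subgroup G, M.index = p ∧ g ∈ M := by
    obtain ⟨i, hi, hi'⟩ := (Nat.dvd_prime_pow hp.out).1 (hG ▸ orderOf_dvd_natCard g)
    have hin : i ≠ n := fun h => hg (eq_top_of_card_eq _ (by rw [Nat.card_zpowers, hi', h, hG]))
    obtain ⟨K, hK, hle⟩ := Sylow.exists_subgroup_card_pow_prime_le (G := G) p (m := n - 1)
      (hG ▸ pow_dvd_pow p (Nat.sub_le n 1)) (zpowers g) (by rw [Nat.card_zpowers, hi']) (by omega)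
    refine ⟨K, ?_, hle (mem_zpowers g)⟩
    have h := K.card_mul_index
    rw [hK, hG, show p ^ n = p ^ (n - 1) * p by rw [← pow_succ]; congr 1; omega] at h
    exact Nat.eq_of_mul_eq_mul_left (pow_pos hp.out.pos _) h
  have hNM : ∀ M : Subgroup G, M.index = p → (g ∈ M ↔ N ≤ M) := fun M hM => by
    have := hMn M hM
    exact ⟨fun h => normalClosure_le_normal (by simpa using h),
      fun h => h (subset_normalClosure rfl)⟩
  obtain ⟨j, -, hj⟩ := (Nat.dvd_prime_pow hp.out).1
    (show Nat.card (G ⧸ N) ∣ p ^ n from hG ▸ card_quotient_dvd_card N)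
  have hj0 : j ≠ 0 := fun h0 => by
    rw [h0, pow_zero, ← index_eq_card, index_eq_one] at hj
    have := (hNM M₀ hM₀).1 hgM
    rw [hj, top_le_iff] at this
    rw [this, index_top] at hM₀
    exact hp.out.ne_one hM₀.symm
  refine Nat.ModEq.trans ?_ (CfsgLib.SubgroupCount.card_subgroups_modEq_one (G := G ⧸ N) (β := j - 1)
    hp.out (hj ▸ pow_dvd_pow p (Nat.sub_le j 1)))
  refine congrArg (· % p) (Nat.card_congr ?_)
  have key : ∀ H : Subgroup (G ⧸ N), H.index = p ↔ Nat.card H = p ^ (j - 1) := fun H => by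
    have h := H.card_mul_index
    rw [hj, show p ^ j = p ^ (j - 1) * p by rw [← pow_succ]; congr 1; omega] at h
    constructor <;> intro h'
    · rw [h'] at h; exact Nat.eq_of_mul_eq_mul_right hp.out.pos h
    · rw [h'] at h; exact Nat.eq_of_mul_eq_mul_left (pow_pos hp.out.pos _) h
  exact
    { toFun := fun M => ⟨M.1.map (QuotientGroup.mk' N), (key _).1 (by
        rw [index_map_eq (H := M.1) (QuotientGroup.mk'_surjective N) (by
          rw [QuotientGroup.ker_mk']; exact (hNM _ M.2.1).1 M.2.2), M.2.1])⟩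
      invFun := fun H => ⟨H.1.comap (QuotientGroup.mk' N), by
          rw [index_comap_of_surjective _ (QuotientGroup.mk'_surjective N)]; exact (key _).2 H.2, by
          refine mem_comap.2 ?_
          rw [QuotientGroup.mk'_apply,
            (QuotientGroup.eq_one_iff (N := N) g).2 (subset_normalClosure (Set.mem_singleton g))]
          exact one_mem _⟩
      left_inv := fun M => Subtype.ext (comap_map_eq_self (by
        rw [QuotientGroup.ker_mk']; exact (hNM _ M.2.1).1 M.2.2))
      right_inv := fun H => Subtype.ext (map_comap_eq_self_of_surjective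
        (QuotientGroup.mk'_surjective N) _) }

theorem pow_dvd_cnt_pGroup {p : ℕ} [hp : Fact p.Prime] (hp2 : p ≠ 2) :
    ∀ (n : ℕ) {G : Type u} [Group G] [Finite G], Nat.card G = p ^ n → ¬ IsCyclic G →
      ∀ s : ℕ, 1 < s → p ^ s ∣ cnt G (p ^ s) := by
  intro n
  induction n with
  | zero =>
    intro G _ _ hG hnc
    rw [pow_zero] at hG
    have := (Nat.card_eq_one_iff_unique.1 hG).1
    exact absurd isCyclic_of_subsingleton hnc
  | succ n ih =>
    intro G _ _ hG hnc s hs
    classical
    have : Fintype G := Fintype.ofFinite G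
    rcases Nat.eq_zero_or_pos (cnt G (p ^ s)) with h0 | h0
    · simp [h0]
    have hsn : s ≤ n := by
      obtain ⟨x, hx⟩ := cnt_pos_iff.1 h0
      by_contra hlt
      refine hnc (isCyclic_of_orderOf_eq_card x ?_)
      have h1 : p ^ s ∣ p ^ (n + 1) := hG ▸ hx ▸ orderOf_dvd_natCard x
      have := (Nat.pow_dvd_pow_iff_le_right hp.out.one_lt).1 h1
      rw [hx, hG, show s = n + 1 by omega]
    set Ms := (Finset.univ : Finset (Subgroup G)).filter (fun M => M.index = p) with hMs
    have hMcard : ∀ M ∈ Ms, Nat.card M = p ^ n := fun M hM => by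
      have h := M.card_mul_index
      rw [(Finset.mem_filter.1 hM).2, hG, pow_succ] at h
      exact Nat.eq_of_mul_eq_mul_right hp.out.pos h
    set S := Finset.univ.filter (fun g : G => orderOf g = p ^ s) with hS
    set k : G → ℕ := fun g => (Ms.filter (fun M => g ∈ M)).card with hk
    have hkmod : ∀ g ∈ S, k g ≡ 1 [MOD p] := fun g hg => by
      have hne : zpowers g ≠ ⊤ := fun h => hnc (isCyclic_of_orderOf_eq_card g (by
        rw [← Nat.card_zpowers, h, card_top]))
      have h1 := card_index_containing hG g hne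
      have h2 : k g = Nat.card {M : Subgroup G // M.index = p ∧ g ∈ M} := by
        rw [Nat.card_eq_fintype_card, Fintype.card_subtype]
        simp only [hk, hMs, Finset.filter_filter]
      rwa [h2]
    -- cyclic subgroups of index `p`
    have hcyc : p ∣ (Ms.filter (fun M : Subgroup G => IsCyclic M)).card := by
      obtain ⟨l, rfl⟩ : ∃ l, n = l + 2 := ⟨n - 2, by omega⟩
      have h1 := pow_dvd_cnt_max (G := G) (l := l) hp2 hG hnc
      have h2 : cnt G (p ^ (l + 2)) =
          Nat.card {U : Subgroup G // IsCyclic U ∧ Nat.card U = p ^ (l + 2) ∧ True} *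
            (p ^ (l + 2)).totient := by
        rw [← card_orderOf_zpowers (p ^ (l + 2)) (fun _ => True)]
        exact Nat.card_congr (Equiv.subtypeEquivRight fun g => by simp)
      rw [h2] at h1
      have h3 := prime_dvd_of_mul_totient hp.out h1
      rwa [Nat.card_eq_fintype_card, Fintype.card_subtype,
        show (Finset.univ.filter fun U : Subgroup G =>
            IsCyclic U ∧ Nat.card U = p ^ (l + 2) ∧ True) = Ms.filter (fun M : Subgroup G => IsCyclic M) from ?_]
        at h3
      ext U
      simp only [hMs, Finset.mem_filter, Finset.mem_univ, true_and, and_true]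
      have h := U.card_mul_index
      rw [hG, pow_succ] at h
      constructor
      · rintro ⟨hU, hUc⟩
        rw [hUc] at h
        exact ⟨Nat.eq_of_mul_eq_mul_left (pow_pos hp.out.pos _) h, hU⟩
      · rintro ⟨hi, hU⟩
        rw [hi] at h
        exact ⟨hU, Nat.eq_of_mul_eq_mul_right hp.out.pos h⟩
    have hcntM : ∀ M : Subgroup G, cnt M (p ^ s) = (S.filter (fun g => g ∈ M)).card := fun M => by
      rw [cnt, show (S.filter (fun g => g ∈ M)).card =
          Nat.card {g : G // g ∈ M ∧ orderOf g = p ^ s} by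
        rw [Nat.card_eq_fintype_card, Fintype.card_subtype, hS, Finset.filter_filter]
        simp only [and_comm]]
      exact Nat.card_congr
        { toFun := fun x => ⟨x.1.1, x.1.2, (Subgroup.orderOf_coe x.1).trans x.2⟩
          invFun := fun x => ⟨⟨x.1, x.2.1⟩, (Subgroup.orderOf_mk x.1 x.2.1).trans x.2.2⟩
          left_inv := fun _ => rfl
          right_inv := fun _ => rfl }
    have hsum : p ^ s ∣ ∑ g ∈ S, k g := by
      have hdc : ∑ g ∈ S, k g = ∑ M ∈ Ms, cnt M (p ^ s) := by
        simp only [hcntM, hk, Finset.card_filter]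
        exact Finset.sum_comm
      rw [hdc, ← Finset.sum_filter_add_sum_filter_not Ms (fun M : Subgroup G => IsCyclic M)]
      refine dvd_add ?_ (Finset.dvd_sum fun M hM => ?_)
      · rw [Finset.sum_congr rfl (fun (M : Subgroup G) hM => (?_ : cnt M (p ^ s) = (p ^ s).totient)),
          Finset.sum_const, smul_eq_mul]
        · exact pow_dvd_mul_totient hp.out (by omega) hcyc
        · obtain ⟨hM1, hM2⟩ := Finset.mem_filter.1 hM
          have : IsCyclic M := hM2
          rw [cnt, Nat.card_eq_fintype_card, Fintype.card_subtype]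
          exact IsCyclic.card_orderOf_eq_totient
            (by rw [← Nat.card_eq_fintype_card, hMcard M hM1]; exact pow_dvd_pow p hsn)
      · obtain ⟨hM1, hM2⟩ := Finset.mem_filter.1 hM
        exact ih (hMcard M hM1) hM2 s hs
    have hcntS : cnt G (p ^ s) = S.card := by
      rw [cnt, Nat.card_eq_fintype_card, Fintype.card_subtype]
    have hk1 : ∀ g ∈ S, 1 ≤ k g := fun g hg => by
      by_contra hlt
      have h := hkmod g hg
      rw [show k g = 0 by omega] at h
      exact hp.out.not_dvd_one (Nat.modEq_zero_iff_dvd.1 h.symm)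
    have hdiff : p ^ s ∣ ∑ g ∈ S, (k g - 1) := by
      refine dvd_sum_of_zpowers_invariant S _ _ ?_ ?_ ?_
      · intro u w hu hw
        simp only [hS, Finset.mem_filter, Finset.mem_univ, true_and] at hu ⊢
        rw [← hu, ← Nat.card_zpowers, hw, Nat.card_zpowers]
      · intro u w _ hw
        have : ∀ M : Subgroup G, w ∈ M ↔ u ∈ M := fun M => by
          rw [← zpowers_le, hw, zpowers_le]
        simp only [hk, this]
      · intro u hu
        have h1 : p ∣ k u - 1 := (Nat.modEq_iff_dvd' (hk1 u hu)).1 (hkmod u hu).symm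
        rw [show orderOf u = p ^ s from (Finset.mem_filter.1 hu).2, mul_comm]
        exact pow_dvd_mul_totient hp.out (by omega) h1
    have hadd : ∑ g ∈ S, k g = ∑ g ∈ S, (k g - 1) + S.card := by
      rw [Finset.card_eq_sum_ones, ← Finset.sum_add_distrib]
      exact Finset.sum_congr rfl fun g hg => (Nat.sub_add_cancel (hk1 g hg)).symm
    rw [hadd] at hsum
    rw [hcntS]
    exact (Nat.dvd_add_right hdiff).1 hsum

/-- Elements of order `p ^ s` in a group with noncyclic Sylow `p`-subgroups. -/
theorem pow_dvd_cnt_sylow [Finite G] {p : ℕ} [hp : Fact p.Prime] (hp2 : p ≠ 2) (P : Sylow p G)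
    (hP : ¬ IsCyclic ↥(P : Subgroup G)) {s : ℕ} (hs : 1 < s) : p ^ s ∣ cnt G (p ^ s) := by
  classical
  have hsplit : cnt G (p ^ s) =
      Nat.card {g : G // orderOf g = p ^ s ∧ zpowers g ≤ (P : Subgroup G)} +
      Nat.card {g : G // orderOf g = p ^ s ∧ ¬ zpowers g ≤ (P : Subgroup G)} := by
    rw [cnt, ← Nat.card_sum]
    exact Nat.card_congr ((Equiv.sumCompl fun g : {g : G // orderOf g = p ^ s} =>
      zpowers g.1 ≤ (P : Subgroup G)).symm.trans (Equiv.sumCongr
        (Equiv.subtypeSubtypeEquivSubtypeInter (fun g : G => orderOf g = p ^ s)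
          (fun g => zpowers g ≤ (P : Subgroup G)))
        (Equiv.subtypeSubtypeEquivSubtypeInter (fun g : G => orderOf g = p ^ s)
          (fun g => ¬ zpowers g ≤ (P : Subgroup G)))))
  rw [hsplit]
  refine dvd_add ?_ ?_
  · obtain ⟨n, hn⟩ := IsPGroup.iff_card.1 P.2
    refine (pow_dvd_cnt_pGroup hp2 n hn hP s hs).trans (Dvd.intro 1 ?_)
    rw [mul_one, cnt]
    exact Nat.card_congr
      { toFun := fun x => ⟨x.1.1, (Subgroup.orderOf_coe x.1).trans x.2, zpowers_le.2 x.1.2⟩
        invFun := fun x => ⟨⟨x.1, zpowers_le.1 x.2.2⟩, (Subgroup.orderOf_mk x.1 _).trans x.2.1⟩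
        left_inv := fun _ => rfl
        right_inv := fun _ => rfl }
  · rw [card_orderOf_zpowers (p ^ s) (fun U => ¬ U ≤ (P : Subgroup G))]
    refine pow_dvd_mul_totient hp.out (by omega) ?_
    set X := {U : Subgroup G // IsCyclic U ∧ Nat.card U = p ^ s ∧ ¬ U ≤ (P : Subgroup G)}
    have hcj : ∀ (c : (P : Subgroup G)) (U : Subgroup G),
        U.map (MulAut.conj (c : G)).toMonoidHom ≤ (P : Subgroup G) → U ≤ (P : Subgroup G) := by
      intro c U h x hx
      have h1 : (c : G) * x * (c : G)⁻¹ ∈ (P : Subgroup G) := h ⟨x, hx, rfl⟩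
      have := mul_mem (mul_mem (inv_mem c.2) h1) c.2
      rwa [show (c : G)⁻¹ * ((c : G) * x * (c : G)⁻¹) * c = x by group] at this
    letI act : MulAction ↥(P : Subgroup G) X :=
      { smul := fun c U => ⟨U.1.map (MulAut.conj (c : G)).toMonoidHom, by
          have := U.2.1
          exact isCyclic_of_surjective _
            (MulEquiv.subgroupMap (MulAut.conj (c : G)) U.1).surjective, by
          rw [card_map_of_injective (MulAut.conj (c : G)).injective, U.2.2.1],
          fun h => U.2.2.2 (hcj c _ h)⟩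
        one_smul := fun U => Subtype.ext (by
          show U.1.map _ = U.1
          rw [OneMemClass.coe_one, map_one]; exact U.1.map_id)
        mul_smul := fun a b U => Subtype.ext (by
          show U.1.map _ = (U.1.map _).map _
          rw [Subgroup.coe_mul, Subgroup.map_map, map_mul]; rfl) }
    have h := (P.2).card_modEq_card_fixedPoints X
    have : IsEmpty (MulAction.fixedPoints ↥(P : Subgroup G) X) := by
      refine ⟨fun ⟨U, hU⟩ => U.2.2.2 ?_⟩
      have hnorm : (P : Subgroup G) ≤ normalizer (U.1 : Set G) := fun c hc =>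
        mem_normalizer_iff_map_conj_eq.2 (congrArg Subtype.val (hU ⟨c, hc⟩))
      have hsup : IsPGroup p ↥((P : Subgroup G) ⊔ U.1) :=
        IsPGroup.to_sup_of_normal_right' P.2 (IsPGroup.of_card U.2.2.1) hnorm
      exact le_sup_right.trans (P.is_maximal' hsup le_sup_left).le
    rw [Nat.card_of_isEmpty (α := MulAction.fixedPoints ↥(P : Subgroup G) X)] at h
    exact Nat.modEq_zero_iff_dvd.1 h

/-- Miller's theorem. -/
theorem pow_dvd_cnt_mul [Finite G] {p : ℕ} [hp : Fact p.Prime] (hp2 : p ≠ 2) (P : Sylow p G)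
    (hP : ¬ IsCyclic ↥(P : Subgroup G)) {s : ℕ} (m : ℕ) (hs : 1 < s) (hm : p.Coprime m) :
    p ^ s ∣ cnt G (p ^ s * m) := by
  classical
  have : Fintype G := Fintype.ofFinite G
  have hm0 : m ≠ 0 := fun h => hp.out.ne_one (by simpa [h] using hm)
  set S := Finset.univ.filter (fun u : G => orderOf u = m) with hS
  set f : G → ℕ := fun u => cnt ↥(centralizer ({u} : Set G)) (p ^ s) with hf
  have hsum : cnt G (p ^ s * m) = ∑ u ∈ S, f u := by
    have h1 : cnt G (p ^ s * m) =
        Nat.card {x : G // x ^ (m * p ^ s) = 1 ∧ orderOf x = m * p ^ s} :=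
      Nat.card_congr (Equiv.subtypeEquivRight fun x => by
        rw [mul_comm]; exact ⟨fun h => ⟨h ▸ pow_orderOf_eq_one x, h⟩, fun h => h.2⟩)
    rw [h1, card_split m (p ^ s) (hm.symm.pow_right s) (fun o => o = m * p ^ s), Nat.card_sigma]
    rw [← Finset.sum_subtype (Finset.univ.filter fun u : G => u ^ m = 1) (fun x => by simp)
      (fun u => Nat.card {v : G // Commute u v ∧ v ^ p ^ s = 1 ∧
        orderOf u * orderOf v = m * p ^ s})]
    rw [show S = (Finset.univ.filter fun u : G => u ^ m = 1).filter (fun u => orderOf u = m) by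
      ext u
      simp only [hS, Finset.mem_filter, Finset.mem_univ, true_and]
      exact ⟨fun h => ⟨h ▸ pow_orderOf_eq_one u, h⟩, fun h => h.2⟩,
      Finset.sum_filter (fun u => orderOf u = m)]
    refine Finset.sum_congr rfl fun u hu => ?_
    simp only [Finset.mem_filter, Finset.mem_univ, true_and] at hu
    split_ifs with h
    · exact Nat.card_congr
        { toFun := fun v => ⟨⟨v.1, mem_centralizer_singleton_iff.2 v.2.1.symm.eq⟩, by
            rw [Subgroup.orderOf_mk]
            exact Nat.eq_of_mul_eq_mul_left (Nat.pos_of_ne_zero hm0)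
              ((congrArg (· * orderOf v.1) h).symm.trans v.2.2.2)⟩
          invFun := fun c => ⟨c.1.1, (mem_centralizer_singleton_iff.1 c.1.2).symm,
            orderOf_dvd_iff_pow_eq_one.1 (dvd_of_eq ((Subgroup.orderOf_coe c.1).trans c.2)),
            congrArg₂ (· * ·) h ((Subgroup.orderOf_coe c.1).trans c.2)⟩
          left_inv := fun _ => rfl
          right_inv := fun _ => rfl }
    · have : IsEmpty {v : G // Commute u v ∧ v ^ p ^ s = 1 ∧
          orderOf u * orderOf v = m * p ^ s} := by
        refine ⟨fun v => h (Nat.dvd_antisymm (orderOf_dvd_of_pow_eq_one hu) ?_)⟩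
        exact ((hm.symm.pow_right s).coprime_dvd_right
          (orderOf_dvd_of_pow_eq_one v.2.2.1)).dvd_of_dvd_mul_right
            (Dvd.intro (p ^ s) v.2.2.2.symm)
      exact Nat.card_of_isEmpty
  rw [hsum]
  refine dvd_sum_of_conj_invariant S f _ ?_ ?_ ?_
  · intro g u hu
    simp only [hS, Finset.mem_filter, Finset.mem_univ, true_and] at hu ⊢
    rw [orderOf_conj', hu]
  · intro g u _
    have hmap : (centralizer ({u} : Set G)).map (MulAut.conj g).toMonoidHom =
        centralizer ({g * u * g⁻¹} : Set G) := by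
      ext x
      rw [mem_map_equiv, mem_centralizer_singleton_iff, mem_centralizer_singleton_iff,
        MulAut.conj_symm_apply]
      constructor <;> intro h
      · calc x * (g * u * g⁻¹) = g * (g⁻¹ * x * g * u) * g⁻¹ := by group
          _ = g * (u * (g⁻¹ * x * g)) * g⁻¹ := by rw [h]
          _ = g * u * g⁻¹ * x := by group
      · calc g⁻¹ * x * g * u = g⁻¹ * (x * (g * u * g⁻¹)) * g := by group
          _ = g⁻¹ * (g * u * g⁻¹ * x) * g := by rw [h]
          _ = u * (g⁻¹ * x * g) := by group
    simp only [hf, cnt]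
    let e := ((MulAut.conj g).subgroupMap (centralizer ({u} : Set G))).trans
      (MulEquiv.subgroupCongr hmap)
    exact (Nat.card_congr (e.toEquiv.subtypeEquiv fun x => by
      rw [MulEquiv.toEquiv_eq_coe, MulEquiv.coe_toEquiv, MulEquiv.orderOf_eq])).symm
  · intro u _
    set C := centralizer ({u} : Set G) with hC
    by_cases hd : p ∣ C.index
    · obtain ⟨t, ht⟩ := hd
      obtain ⟨w, hw⟩ := totient_dvd_cnt (G := C) (p ^ s)
      rw [show f u = cnt C (p ^ s) from rfl, hw, ht]
      rw [show p * t * ((p ^ s).totient * w) = (p * t * w) * (p ^ s).totient by ring]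
      exact pow_dvd_mul_totient hp.out (by omega) ⟨t * w, by ring⟩
    · refine dvd_mul_of_dvd_right ?_ _
      obtain ⟨R⟩ := (inferInstance : Nonempty (Sylow p C))
      refine pow_dvd_cnt_sylow hp2 R (fun hR => hP ?_) hs
      have hc : Nat.card ((R : Subgroup C).map C.subtype) = p ^ (Nat.card G).factorization p := by
        rw [card_map_of_injective C.subtype_injective, R.card_eq_multiplicity,
          ← C.card_mul_index, Nat.factorization_mul Nat.card_pos.ne' index_ne_zero_of_finite,
          Finsupp.add_apply, Nat.factorization_eq_zero_of_not_dvd hd, add_zero]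
      let R' : Sylow p G := Sylow.ofCard _ hc
      have hR' : IsCyclic ↥(R' : Subgroup G) := by
        rw [Sylow.coe_ofCard]
        exact isCyclic_of_surjective _
          ((R : Subgroup C).equivMapOfInjective C.subtype C.subtype_injective).surjective
      exact isCyclic_of_surjective _ (R'.equiv P).surjective

end CfsgLib.OrderCount
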