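import Cfsg.Agent.Lib.OrderCount.ClassSize

/-!
Groups in which the elements of order at least three fall into at most two class sizes: two odd
primes never share their value.
-/

set_option autoImplicit false

namespace CfsgLib.OrderCount

open Subgroup

universe u

variable {G : Type u} [Group G]

theorem zmod_one_ne_neg_one {p : ℕ} (hp : p.Prime) (hp2 : p ≠ 2) : (1 : ZMod p) ≠ -1 := by
  have := Fact.mk hp
  have := Fact.mk (lt_of_le_of_ne hp.two_le (Ne.symm hp2))
  exact (ZMod.neg_one_ne_one).symm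

theorem card_dvd_orderOf_not_dvd [Finite G] {p q : ℕ} (hp : p.Prime) (hq : q.Prime) (hpq : p ≠ q)
    (hsq : ∀ g : G, ¬ p ^ 2 ∣ orderOf g) :
    Nat.card {g : G // p ∣ orderOf g ∧ ¬ q ∣ orderOf g} =
      ∑ d ∈ (Nat.card G).divisors.filter (fun d => p.Coprime d ∧ q.Coprime d), cnt G (p * d) := by
  classical
  have : Fintype G := Fintype.ofFinite G
  rw [Nat.card_eq_fintype_card, Fintype.card_subtype,
    Finset.card_eq_sum_card_fiberwise (f := fun g => orderOf g / p)
      (t := (Nat.card G).divisors.filter (fun d => p.Coprime d ∧ q.Coprime d))]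
  · refine Finset.sum_congr rfl fun d hd => ?_
    obtain ⟨-, hpd, hqd⟩ := Finset.mem_filter.1 hd
    simp only [cnt, Nat.card_eq_fintype_card, Fintype.card_subtype]
    refine congrArg Finset.card (Finset.ext fun x => ?_)
    simp only [Finset.mem_filter, Finset.mem_univ, true_and]
    constructor
    · rintro ⟨⟨h1, -⟩, h2⟩
      rw [← h2, Nat.mul_div_cancel' h1]
    · intro h
      refine ⟨⟨h ▸ Dvd.intro d rfl, fun hq' => ?_⟩, by rw [h, Nat.mul_div_cancel_left d hp.pos]⟩
      rw [h] at hq'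
      rcases hq.dvd_mul.1 hq' with h' | h'
      · exact hpq ((Nat.prime_dvd_prime_iff_eq hq hp).1 h').symm
      · exact hq.coprime_iff_not_dvd.1 hqd h'
  · intro x hx
    simp only [Finset.coe_filter, Finset.mem_univ, true_and, Set.mem_ofPred_eq] at hx
    obtain ⟨⟨c, hc⟩, hqx⟩ := hx
    simp only [Finset.mem_coe, Finset.mem_filter, Nat.mem_divisors, hc,
      Nat.mul_div_cancel_left c hp.pos]
    rw [hc] at hqx
    refine ⟨⟨(Dvd.intro_left p hc.symm).trans (orderOf_dvd_natCard x), Nat.card_pos.ne'⟩,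
      hp.coprime_iff_not_dvd.2 fun h => hsq x ?_, hq.coprime_iff_not_dvd.2 fun h => hqx (h.mul_left p)⟩
    rw [hc, sq]
    exact Nat.mul_dvd_mul_left p h

/-- If the elements of every order greater than `2` come in one of two numbers `a`, `b`, and those
of order at most `2` are at most one for each order, two odd primes have different numbers. -/
theorem false_of_cnt_eq [Finite G] {p q : ℕ} (hp : p.Prime) (hq : q.Prime) (hp2 : p ≠ 2)
    (hq2 : q ≠ 2) (hpq : p ≠ q) (hpG : p ∣ Nat.card G) (hqG : q ∣ Nat.card G) (a b : ℕ)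
    (hval : ∀ m, 2 < m → 0 < cnt G m → cnt G m = a ∨ cnt G m = b)
    (hsmall : ∀ m, m ≤ 2 → 0 < cnt G m → cnt G m = 1)
    (hpa : cnt G p = a) (hqa : cnt G q = a) : False := by
  classical
  have hodd3 : ∀ r : ℕ, r.Prime → r ≠ 2 → 2 < r := fun r hr hr2 =>
    lt_of_le_of_ne hr.two_le (Ne.symm hr2)
  have hap : (a : ZMod p) = -1 := hpa ▸ cnt_prime_eq_neg_one hp hpG
  have haq : (a : ZMod q) = -1 := hqa ▸ cnt_prime_eq_neg_one hq hqG
  have hcop := (Nat.coprime_primes hp hq).2 hpq
  have h3pq : 2 < p * q := lt_of_lt_of_le (hodd3 p hp hp2) (Nat.le_mul_of_pos_right p hq.pos)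
  -- `c (p q) = b`
  have hkey : ∀ r s : ℕ, r.Prime → s.Prime → r ≠ 2 → r.Coprime s → r ∣ Nat.card G →
      2 < r * s → cnt G s = a → (a : ZMod r) = -1 →
      cnt G (r * s) = b ∧ (b : ZMod r) = 1 := by
    intro r s hr hs hr2 hrs hrG h3 hsa har
    have := Fact.mk hr
    have h1 := cnt_prime_mul_eq_neg hr hrG hs.pos hrs
    rw [hsa, har, neg_neg] at h1
    have hpos : 0 < cnt G (r * s) := Nat.pos_of_ne_zero fun h0 => by
      rw [h0, Nat.cast_zero] at h1; exact zero_ne_one h1
    rcases hval _ h3 hpos with h | h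
    · rw [h, har] at h1; exact absurd h1.symm (zmod_one_ne_neg_one hr hr2)
    · exact ⟨h, h ▸ h1⟩
  obtain ⟨-, hbp⟩ := hkey p q hp hq hp2 hcop hpG h3pq hqa hap
  obtain ⟨-, hbq⟩ := hkey q p hq hp hq2 hcop.symm hqG (mul_comm p q ▸ h3pq) hpa haq
  -- no squares
  have hsq : ∀ r : ℕ, r.Prime → r ≠ 2 → (a : ZMod r) = -1 → (b : ZMod r) = 1 →
      ∀ g : G, ¬ r ^ 2 ∣ orderOf g := by
    intro r hr hr2 har hbr g hg
    have := Fact.mk hr
    have hpos : 0 < cnt G (r ^ 2) := cnt_pos_of_dvd (cnt_pos_iff.2 ⟨g, rfl⟩) hg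
    have h0 : (cnt G (r ^ 2) : ZMod r) = 0 :=
      (ZMod.natCast_eq_zero_iff _ _).2 (prime_dvd_cnt_of_sq_dvd hr dvd_rfl)
    rcases hval _ (lt_of_lt_of_le (hodd3 r hr hr2) (Nat.le_self_pow two_ne_zero r)) hpos with h | h
    · rw [h, har] at h0; exact one_ne_zero (neg_eq_zero.1 h0)
    · rw [h, hbr] at h0; exact one_ne_zero h0
  -- the value at `r d` depends only on `d`
  have hdet : ∀ d, 0 < d → p.Coprime d → q.Coprime d → cnt G (p * d) = cnt G (q * d) := by
    intro d hd hpd hqd
    have main : ∀ r : ℕ, r.Prime → r ≠ 2 → r ∣ Nat.card G → r.Coprime d →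
        (a : ZMod r) = -1 → (b : ZMod r) = 1 →
        cnt G (r * d) = if cnt G d = 0 then 0 else if cnt G d = b ∨ cnt G d = 1 then a else b := by
      intro r hr hr2 hrG hrd har hbr
      have := Fact.mk hr
      have h11 := zmod_one_ne_neg_one hr hr2
      have h1 := cnt_prime_mul_eq_neg hr hrG hd hrd
      split_ifs with h0 h2
      · by_contra hne
        have := cnt_pos_of_dvd (Nat.pos_of_ne_zero hne) (Dvd.intro_left r rfl)
        omega
      · have h1' : (cnt G (r * d) : ZMod r) = -1 := by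
          rw [h1]; rcases h2 with h2 | h2 <;> simp [h2, hbr]
        have hpos : 0 < cnt G (r * d) := Nat.pos_of_ne_zero fun hz => by
          rw [hz, Nat.cast_zero] at h1'; exact one_ne_zero (neg_eq_zero.1 h1'.symm)
        rcases hval _ (lt_of_lt_of_le (hodd3 r hr hr2) (Nat.le_mul_of_pos_right r hd)) hpos with h | h
        · exact h
        · rw [h, hbr] at h1'; exact absurd h1' h11
      · push Not at h2
        have hd3 : 2 < d := by
          by_contra hd3
          exact h2.2 (hsmall d (not_lt.1 hd3) (Nat.pos_of_ne_zero h0))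
        have hda : cnt G d = a := (hval d hd3 (Nat.pos_of_ne_zero h0)).resolve_right h2.1
        have h1' : (cnt G (r * d) : ZMod r) = 1 := by rw [h1, hda, har, neg_neg]
        have hpos : 0 < cnt G (r * d) := Nat.pos_of_ne_zero fun hz => by
          rw [hz, Nat.cast_zero] at h1'; exact one_ne_zero h1'.symm
        rcases hval _ (lt_of_lt_of_le (hodd3 r hr hr2) (Nat.le_mul_of_pos_right r hd)) hpos with h | h
        · rw [h, har] at h1'; exact absurd h1'.symm h11
        · exact h
    rw [main p hp hp2 hpG hpd hap hbp, main q hq hq2 hqG hqd haq hbq]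
  -- as many elements of order divisible by `p` as by `q`
  have hX : Nat.card {g : G // p ∣ orderOf g} = Nat.card {g : G // q ∣ orderOf g} := by
    have split : ∀ r s : ℕ, Nat.card {g : G // r ∣ orderOf g} =
        Nat.card {g : G // r ∣ orderOf g ∧ s ∣ orderOf g} +
        Nat.card {g : G // r ∣ orderOf g ∧ ¬ s ∣ orderOf g} := fun r s => by
      rw [← Nat.card_sum]
      exact Nat.card_congr ((Equiv.sumCompl fun g : {g : G // r ∣ orderOf g} =>
        s ∣ orderOf g.1).symm.trans (Equiv.sumCongr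
          (Equiv.subtypeSubtypeEquivSubtypeInter (fun g : G => r ∣ orderOf g) (fun g => s ∣ orderOf g))
          (Equiv.subtypeSubtypeEquivSubtypeInter (fun g : G => r ∣ orderOf g)
            (fun g => ¬ s ∣ orderOf g))))
    rw [split p q, split q p, card_dvd_orderOf_not_dvd hp hq hpq (hsq p hp hp2 hap hbp),
      card_dvd_orderOf_not_dvd hq hp (Ne.symm hpq) (hsq q hq hq2 haq hbq),
      Nat.card_congr (Equiv.subtypeEquivRight (fun g : G => and_comm
        (a := p ∣ orderOf g) (b := q ∣ orderOf g)))]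
    refine congrArg₂ (· + ·) rfl ?_
    rw [show (Nat.card G).divisors.filter (fun d => q.Coprime d ∧ p.Coprime d) =
      (Nat.card G).divisors.filter (fun d => p.Coprime d ∧ q.Coprime d) from
        Finset.filter_congr fun d _ => and_comm]
    refine Finset.sum_congr rfl fun d hd => ?_
    obtain ⟨hd, hpd, hqd⟩ := Finset.mem_filter.1 hd
    exact hdet d (Nat.pos_of_mem_divisors hd) hpd hqd
  -- hence divisible by the group order
  obtain ⟨i, m₁, hm₁, hi⟩ := Nat.exists_eq_pow_mul_and_not_dvd (Nat.card_pos (α := G)).ne' p hp.ne_one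
  obtain ⟨j, m₂, hm₂, hj⟩ := Nat.exists_eq_pow_mul_and_not_dvd (Nat.card_pos (α := G)).ne' q hq.ne_one
  have d1 := coprime_dvd_card_dvd_orderOf (G := G) p (p ^ i) m₁ hi
    ((hp.coprime_iff_not_dvd.2 hm₁).pow_left i) (hp.coprime_iff_not_dvd.2 hm₁)
  have d2 := coprime_dvd_card_dvd_orderOf (G := G) q (q ^ j) m₂ hj
    ((hq.coprime_iff_not_dvd.2 hm₂).pow_left j) (hq.coprime_iff_not_dvd.2 hm₂)
  rw [← hX] at d2
  have d3 : p ^ i ∣ m₂ := by
    refine (hcop.pow i j).dvd_of_dvd_mul_left ?_
    rw [← hj, hi]; exact Dvd.intro _ rfl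
  have d4 : Nat.card G ∣ Nat.card {g : G // p ∣ orderOf g} := by
    rw [hi]
    exact ((hp.coprime_iff_not_dvd.2 hm₁).pow_left i).mul_dvd_of_dvd_of_dvd (d3.trans d2) d1
  have : Fintype G := Fintype.ofFinite G
  have hlt : Nat.card {g : G // p ∣ orderOf g} < Nat.card G := by
    rw [Nat.card_eq_fintype_card, Nat.card_eq_fintype_card]
    exact Fintype.card_subtype_lt (x := 1) (by rw [orderOf_one]; exact hp.not_dvd_one)
  obtain ⟨x, hx⟩ := cnt_pos_iff.1 (cnt_pos_prime hp hpG)
  have : Nonempty {g : G // p ∣ orderOf g} := ⟨⟨x, hx ▸ dvd_rfl⟩⟩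
  exact absurd (Nat.le_of_dvd Nat.card_pos d4) (not_le.2 hlt)

end CfsgLib.OrderCount
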